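import Groth.Agent.CurveGor.Meet
import Groth.Agent.CurveGor.Bridge
import Groth.Agent.Lib.CurveTensor
import Groth.Agent.AmpleVan.FiniteSurj
import Groth.Agent.Snapper.DimVanish
import Groth.Agent.S2266

/-!
# The ideal of one half of a nodal curve, seen on the other half
-/

set_option autoImplicit false
set_option linter.style.haveILetI false
set_option linter.unusedSectionVars false
set_option backward.isDefEq.respectTransparency false
set_option backward.isDefEq.respectTransparency.types false
set_option maxHeartbeats 1000000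
set_option synthInstance.maxHeartbeats 200000

universe u

open CategoryTheory CategoryTheory.Limits AlgebraicGeometry TopologicalSpace Opposite

noncomputable section

namespace Groth.Agent.CurveTree

open Groth.Agent CurveGor

variable {X : Scheme.{u}}

/-- The kernel of a closed immersion from a reduced scheme is the reduced ideal of its range. -/
theorem ker_eq_vI {W : Scheme.{u}} [AlgebraicGeometry.IsReduced W] (j : W ⟶ X) [IsClosedImmersion j] :
    j.ker = vI (Set.range j) j.isClosedEmbedding.isClosed_range := by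
  haveI : AlgebraicGeometry.IsReduced j.image := (S2266.result j).1
  haveI : AlgebraicGeometry.IsReduced j.ker.subscheme := ‹AlgebraicGeometry.IsReduced j.image›
  rw [RedComap5.eq_vanishingIdeal j.ker]
  congr 1
  refine Closeds.ext ?_
  show (j.ker.support : Set X) = Set.range j
  rw [j.support_ker]
  exact j.isClosedEmbedding.isClosed_range.closure_eq

/-- Sections of a kernel. -/
theorem exists_kernel_app {M N : X.Modules} (g : M ⟶ N) (W : X.Opens) (b : Γ(M, W)) (hb : g.app W b = 0) :
    ∃ a, (kernel.ι g).app W a = b := by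
  have hS : (ShortComplex.mk (kernel.ι g) (cokernel.π (kernel.ι g)) (cokernel.condition _)).ShortExact :=
    { exact := ShortComplex.exact_of_g_is_cokernel _ (cokernelIsCokernel _) }
  refine QCoh.exists_app_f_eq hS W b (QCoh.app_injective (Abelian.factorThruCoimage g) W ?_)
  rw [map_zero]
  exact (congr(($(Abelian.coimage.fac g)).app W b)).trans hb

/-- If `I₁ ∩ I₂ = 0`, the ideal of the second half is the ideal of `P = X₁ ∩ X₂` on the first. -/
theorem nonempty_ideal_iso (I₁ I₂ : X.IdealSheafData) (h : I₁ ⊓ I₂ = ⊥) (P : I₁.subscheme.IdealSheafData)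
    (hP : (P.subschemeι ≫ I₁.subschemeι).ker = I₁ ⊔ I₂) :
    Nonempty (ClSub.idealMod I₂ ≅ (Coh.push I₁.subschemeι).obj (ClSub.idealMod P)) := by
  let ι₁ := I₁.subschemeι
  let g := (Coh.push ι₁).map (ClSub.toSubscheme P)
  have hker : ∀ (I : X.IdealSheafData) (U : X.affineOpens) (r : Γ(X, U.1)),
      (ClSub.toSubscheme I).app U.1 r = 0 ↔ r ∈ I.ideal U := fun I U r => by
    rw [← I.ker_subschemeι_app U, RingHom.mem_ker]; rfl
  have hcomp : ∀ (U : X.affineOpens) (r : Γ(X, U.1)),
      g.app U.1 ((ClSub.toSubscheme I₁).app U.1 r) = 0 ↔ r ∈ (I₁ ⊔ I₂).ideal U := fun U r => by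
    rw [← hP, Scheme.Hom.ker_apply, RingHom.mem_ker]
    rfl
  have hw : (ClSub.idealModι I₂ ≫ ClSub.toSubscheme I₁) ≫ g = 0 := by
    refine QCoh.hom_eq_zero_of_affine _ fun U hU t => ?_
    refine (hcomp ⟨U, hU⟩ _).2 ?_
    rw [Scheme.IdealSheafData.ideal_sup]
    refine Submodule.mem_sup_right ((hker I₂ ⟨U, hU⟩ _).1 ?_)
    exact congr(($(kernel.condition (ClSub.toSubscheme I₂))).app U t)
  let w := kernel.lift g _ hw
  have hwι : ∀ (U : X.Opens) (t : Γ(ClSub.idealMod I₂, U)), (kernel.ι g).app U (w.app U t) =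
      (ClSub.toSubscheme I₁).app U ((ClSub.idealModι I₂).app U t) := fun U t =>
    congr(($(kernel.lift_ι g _ hw)).app U t)
  haveI : IsIso w := by
    refine QCoh.isIso_of_isBasis w (B := {W | IsAffineOpen W}) X.isBasis_affineOpens fun U hU => ?_
    replace hU : IsAffineOpen U := hU
    constructor
    · refine (injective_iff_map_eq_zero _).2 fun t ht => ?_
      haveI : Mono (ClSub.idealModι I₂) := inferInstanceAs (Mono (kernel.ι _))
      refine QCoh.app_injective (ClSub.idealModι I₂) U ?_
      rw [map_zero]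
      have h0 : (ClSub.toSubscheme I₁).app U ((ClSub.idealModι I₂).app U t) = 0 := by
        rw [← hwι, ht, map_zero]
      have h2 : (ClSub.toSubscheme I₂).app U ((ClSub.idealModι I₂).app U t) = 0 :=
        congr(($(kernel.condition (ClSub.toSubscheme I₂))).app U t)
      have h3 : (show Γ(X, U) from (ClSub.idealModι I₂).app U t) ∈ (I₁ ⊓ I₂).ideal ⟨U, hU⟩ := by
        rw [Scheme.IdealSheafData.ideal_inf]
        exact ⟨(hker I₁ ⟨U, hU⟩ _).1 h0, (hker I₂ ⟨U, hU⟩ _).1 h2⟩
      rw [h, Scheme.IdealSheafData.ideal_bot] at h3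
      exact (Submodule.mem_bot _).1 h3
    · intro y
      obtain ⟨r, hr⟩ := I₁.subschemeι_app_surjective ⟨U, hU⟩ ((kernel.ι g).app U y)
      have hg : g.app U ((ClSub.toSubscheme I₁).app U r) = 0 := by
        refine (congrArg (g.app U) hr).trans ?_
        exact congr(($(kernel.condition g)).app U y)
      have hm := (hcomp ⟨U, hU⟩ r).1 hg
      rw [Scheme.IdealSheafData.ideal_sup] at hm
      obtain ⟨r₁, h₁, r₂, h₂, h12⟩ := Submodule.mem_sup.1 hm
      obtain ⟨t, ht⟩ := exists_kernel_app (ClSub.toSubscheme I₂) U r₂ ((hker I₂ ⟨U, hU⟩ r₂).2 h₂)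
      refine ⟨t, QCoh.app_injective (kernel.ι g) U ?_⟩
      rw [hwι]
      refine (congrArg ((ClSub.toSubscheme I₁).app U) ht).trans (Eq.trans ?_ hr)
      rw [← h12]
      refine Eq.trans ?_ (map_add ((ClSub.toSubscheme I₁).app U).hom r₁ r₂).symm
      refine (zero_add _).symm.trans (congrArg (· + _) ?_)
      exact ((hker I₁ ⟨U, hU⟩ r₁).2 h₁).symm
  haveI : PreservesFiniteLimits (Coh.push ι₁) := QCoh.preservesFiniteLimits_push ι₁
  haveI : PreservesBinaryBiproducts (Coh.push ι₁) :=
    preservesBinaryBiproducts_of_preservesBinaryProducts _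
  haveI : (Coh.push ι₁).Additive := Functor.additive_of_preservesBinaryBiproducts _
  exact ⟨asIso w ≪≫ (PreservesKernel.iso (Coh.push ι₁) (ClSub.toSubscheme P)).symm⟩

section Meet

variable {k : Type u} [Field k] [IsAlgClosed k] [X.Over (Spec (CommRingCat.of k))]
  [IsProper (X ↘ Spec (CommRingCat.of k))] [AlgebraicGeometry.IsReduced X]

/-- Complementary subcurves of a nodal curve meet in reduced points. -/
theorem sup_eq_vI_meet (hdim : topologicalKrullDim X ≤ 1) (hX : Curv2.AtWorstNodal k X) {Y : Set X}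
    (hY : IsClosed Y) (hc : IsCompUnion Y) :
    vI Y hY ⊔ cI Y = vI (Y ∩ closure Yᶜ) (hY.inter isClosed_closure) := by
  haveI := CurveCohLib.isNoetherian_of_proper (k := k) (X := X)
  refine le_antisymm (sup_le ?_ ?_) ?_
  · exact Scheme.IdealSheafData.vanishingIdeal_antimono fun _ h => h.1
  · exact Scheme.IdealSheafData.vanishingIdeal_antimono fun _ h => h.2
  rw [Scheme.IdealSheafData.le_def]
  intro U r hr
  rw [← (vI Y hY ⊔ cI Y).ker_subschemeι_app U, RingHom.mem_ker]
  let Q := ClSub.quotMod (vI Y hY ⊔ cI Y)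
  let t := ClSub.toSubscheme (vI Y hY ⊔ cI Y)
  show t.app U.1 r = 0
  refine QCoh.eq_zero_of_locally U.1 _ fun p hp => ?_
  have h0 : Q.presheaf.germ U.1 p hp (t.app U.1 r) = Q.presheaf.germ U.1 p hp 0 := by
    rw [map_zero]
    by_cases hpm : p ∈ Y ∩ closure Yᶜ
    · have hpc := isClosed_singleton_of_meet hdim hY hpm
      have ha : X.presheaf.germ U.1 p hp r ∈ IsLocalRing.maximalIdeal (X.presheaf.stalk p) := by
        refine (IsLocalRing.mem_maximalIdeal _).2 fun hu => (mem_vI_ideal U r).1 hr p hpm hp ?_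
        exact (X.mem_basicOpen _ _ hp).2 hu
      have h1 : t.app U.1 r = r • t.app U.1 (1 : Γ(X, U.1)) :=
        ((congrArg (t.app U.1) (mul_one r).symm).trans
          (Scheme.Modules.Hom.app_smul (M := Coh.structureModule X) t r (1 : Γ(X, U.1))))
      rw [h1, QCoh.germ_smul']
      exact smul_meet_eq_zero hX hY hc p hpm hpc ha _
    · haveI : Subsingleton (Q.presheaf.stalk p) := ParShLib.subsingleton_stalk_quotMod _ (by
        show ¬ p ∈ ((vI Y hY ⊔ cI Y).support : Set X)
        rw [Scheme.IdealSheafData.support_sup, Closeds.coe_inf, Scheme.IdealSheafData.coe_support_vanishingIdeal,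
          Scheme.IdealSheafData.coe_support_vanishingIdeal]
        exact hpm)
      exact Subsingleton.elim _ _
  obtain ⟨V, hV, i, j, hij⟩ := TopCat.Presheaf.germ_eq _ p hp hp _ _ h0
  rw [map_zero] at hij
  exact ⟨V, i, hV, hij⟩

end Meet

end Groth.Agent.CurveTree
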