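import Groth.Agent.CurveGor.MeetNode
import Groth.Agent.CurveGor.PointedTwist
import Groth.Agent.CurveGor.Sum
import Groth.Agent.CurveGor.Existence
import Groth.Agent.CurveGor.DualGraph
import Groth.Agent.NodeFam.SingLocus
import Groth.Agent.S14512
import Groth.Agent.S7834
import Groth.Agent.H23.EquidimFibres
import Groth.Agent.CurveCover.Line
import Groth.Agent.CurveTree.Ideal

/-!
# Nodal curves with rational components
-/

set_option autoImplicit false
set_option linter.style.haveILetI false
set_option linter.unusedSectionVars false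
set_option backward.isDefEq.respectTransparency false
set_option backward.isDefEq.respectTransparency.types false
set_option maxHeartbeats 1000000
set_option synthInstance.maxHeartbeats 200000

universe u

open CategoryTheory CategoryTheory.Limits AlgebraicGeometry TopologicalSpace Opposite IsLocalRing

noncomputable section

namespace Groth.Agent.CurveTree

open Groth.Agent CurveGor

attribute [local instance] HasDerivedCategory.standard

/-- An ordinary double point has at most two minimal primes. -/
theorem card_minimal_le_two {K : Type u} [Field K] {A : Type u} [CommRing A] [IsLocalRing A] [IsNoetherianRing A]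
    [Algebra K A] (h : Curv2.IsOrdDoublePt K A) :
    ∃ Q Q' : Ideal A, ∀ P : Ideal A, P ∈ minimalPrimes A → P = Q ∨ P = Q' := by
  obtain ⟨e, -⟩ := h
  let C := AdicCompletion (maximalIdeal A) A
  haveI := LC.Canon.faithfullyFlat_completion (R := A)
  let B := NodeFam.NodeQuot K
  let φ : A →+* B := e.toRingHom.comp (algebraMap A C)
  letI : Algebra A B := φ.toAlgebra
  let el : C ≃ₐ[A] B := AlgEquiv.ofRingEquiv (f := e) fun _ => rfl
  haveI : Module.FaithfullyFlat A B := Module.FaithfullyFlat.of_linearEquiv _ _ el.symm.toLinearEquiv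
  let ax : Fin 2 → Ideal B := fun l => Ideal.span {Ideal.Quotient.mk (NodeFam.nodeIdeal K) (MvPowerSeries.X l : NodeFam.PS2 K)}
  refine ⟨(ax 0).comap (algebraMap A B), (ax 1).comap (algebraMap A B), fun P hP => ?_⟩
  haveI : P.IsPrime := hP.1.1
  obtain ⟨⟨T, hT⟩, hTP⟩ := PrimeSpectrum.comap_surjective_of_faithfullyFlat (B := B) (⟨P, hP.1.1⟩ : PrimeSpectrum A)
  have hTP' : T.comap (algebraMap A B) = P := congrArg PrimeSpectrum.asIdeal hTP
  haveI := hT
  have hle : ∀ l, ax l ≤ T → P = (ax l).comap (algebraMap A B) := fun l hl => by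
    haveI := CurveGor.isPrime_axis (K := K) l
    have h1 : (ax l).comap (algebraMap A B) ≤ P := (Ideal.comap_mono hl).trans hTP'.le
    exact le_antisymm (hP.2 ⟨Ideal.comap_isPrime _ _, bot_le⟩ h1) h1
  have hprod : ax 0 * ax 1 = ⊥ := le_bot_iff.1 (Ideal.mul_le_inf.trans (CurveGor.axis_inf (K := K)).le)
  exact (hT.mul_le.1 (hprod ▸ bot_le)).imp (hle 0) (hle 1)

variable {X : Scheme.{u}}

/-- Components through a point give minimal primes of its local ring. -/
theorem exists_minimal {p η : X} (hη : η ∈ genericPoints (X : Type u)) (hsp : η ⤳ p) :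
    ∃ z : PrimeSpectrum (X.presheaf.stalk p), z.asIdeal ∈ minimalPrimes (X.presheaf.stalk p) ∧
      X.fromSpecStalk p z = η := by
  obtain ⟨z, hz⟩ : η ∈ Set.range (X.fromSpecStalk p) := by rw [Scheme.range_fromSpecStalk]; exact hsp
  refine ⟨z, ⟨⟨z.isPrime, bot_le⟩, fun Q hQ hle => ?_⟩, hz⟩
  have hs : (show Spec (X.presheaf.stalk p) from (⟨Q, hQ.1⟩ : PrimeSpectrum (X.presheaf.stalk p))) ⤳ z :=
    (PrimeSpectrum.le_iff_specializes (R := X.presheaf.stalk p) ⟨Q, hQ.1⟩ z).1 hle
  have h1 := hs.map (X.fromSpecStalk p).continuous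
  rw [hz] at h1
  have h2 := (NormAmpleX.eq_of_specializes_generic hη h1).trans hz.symm
  exact le_of_eq (congrArg PrimeSpectrum.asIdeal ((X.fromSpecStalk p).isEmbedding.injective h2)).symm

variable (k : Type u) [Field k] [IsAlgClosed k] [X.Over (Spec (CommRingCat.of k))]
  [IsProper (X ↘ Spec (CommRingCat.of k))] [ConnectedSpace X]
  (hdim : topologicalKrullDim X = 1) (hX : Curv2.AtWorstNodal k X)

omit [IsAlgClosed k] in
/-- `H¹(O)` of the line vanishes. -/
theorem subsingleton_h1_line :
    Subsingleton (Coh.HH (CohB1.ProjSpace 1 k) (Coh.structureModule (CohB1.ProjSpace 1 k)) 1) :=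
  PnCoh.subsingleton_HH_structureModule (ι := Fin (1 + 1)) (R := k) (PnCoh.isQCoh_structureModule _) 0

omit [IsAlgClosed k] [IsProper (X ↘ Spec (CommRingCat.of k))] [ConnectedSpace X] in
/-- Transport of the vanishing of `H¹(O)` along an isomorphism. -/
theorem subsingleton_h1_of_iso {P W : Scheme.{u}} [P.Over (Spec (CommRingCat.of k))]
    [W.Over (Spec (CommRingCat.of k))] [IsLocallyNoetherian P] [W.IsSeparated] (j : P ⟶ W) [IsIso j]
    (hjk : j ≫ (W ↘ Spec (CommRingCat.of k)) = P ↘ Spec (CommRingCat.of k))
    (h : Subsingleton (Coh.HH P (Coh.structureModule P) 1)) :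
    Subsingleton (Coh.HH W (Coh.structureModule W) 1) := by
  haveI : IsIso (ClSub.unitToPush j) := by
    refine QCoh.isIso_of_isBasis _ (B := {U | IsAffineOpen U}) (Scheme.isBasis_affineOpens _) fun U _ => ?_
    exact ConcreteCategory.bijective_of_isIso (j.app U)
  obtain ⟨l⟩ := PnCoh.exists_linearEquiv_push k j hjk (QCoh.isQCoh_structureModule (X := P)) 1
  exact @Equiv.subsingleton _ _
    ((CurveCohLib.hhEquiv (k := k) (asIso (ClSub.unitToPush j)) 1).trans l.symm).toEquiv h

/-- The reduced component at a generic point. -/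
abbrev comp (η : X) : X.IdealSheafData := vI (closure ({η} : Set X)) isClosed_closure

/-- The structure map of a component. -/
abbrev compOver (η : X) : (comp η).subscheme.Over (Spec (CommRingCat.of k)) :=
  ⟨(comp η).subschemeι ≫ (X ↘ Spec (CommRingCat.of k))⟩

include hdim hX in
theorem dim_comp {η : X} (hη : η ∈ genericPoints (X : Type u)) : topologicalKrullDim (comp η).subscheme = 1 := by
  haveI := isReduced_of_nodal (k := k) hdim hX
  exact dim_subscheme (k := k) hdim.le (notClosed_of_generic (k := k) hdim) isClosed_closure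
    (isCompUnion_closure hη) ⟨η, subset_closure rfl⟩

include hdim hX in
theorem smooth_comp {η : X} (hη : η ∈ genericPoints (X : Type u))
    (h0 : genusY k (closure ({η} : Set X)) isClosed_closure = 0) :
    Smooth ((comp η).subschemeι ≫ (X ↘ Spec (CommRingCat.of k))) := by
  letI := compOver k η
  haveI : IsProper ((comp η).subscheme ↘ Spec (CommRingCat.of k)) :=
    inferInstanceAs (IsProper ((comp η).subschemeι ≫ (X ↘ Spec (CommRingCat.of k))))
  haveI : IsIntegral (comp η).subscheme := CurveGor.isIntegral_closure (k := k) η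
  exact S14512.result k (comp η).subscheme (dim_comp k hdim hX hη) h0

include hdim hX in
/-- A component of genus zero is a smooth rational component. -/
theorem isSmRatComp_of_genus {η : X} (hη : η ∈ genericPoints (X : Type u))
    (h0 : genusY k (closure ({η} : Set X)) isClosed_closure = 0) :
    CurvSt.IsSmRatComp k X (X ↘ Spec (CommRingCat.of k)) (closure ({η} : Set X)) := by
  letI := compOver k η
  haveI : IsProper ((comp η).subscheme ↘ Spec (CommRingCat.of k)) :=
    inferInstanceAs (IsProper ((comp η).subschemeι ≫ (X ↘ Spec (CommRingCat.of k))))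
  haveI : IsIntegral (comp η).subscheme := CurveGor.isIntegral_closure (k := k) η
  haveI : IsIntegral (Over.mk ((comp η).subscheme ↘ Spec (CommRingCat.of k))).left :=
    inferInstanceAs (IsIntegral (comp η).subscheme)
  haveI : GeometricallyIntegral ((comp η).subscheme ↘ Spec (CommRingCat.of k)) :=
    H23.EquidimFibres.geometricallyIntegral_of_isAlgClosed
      (V := Over.mk ((comp η).subscheme ↘ Spec (CommRingCat.of k)))
  obtain ⟨e, he⟩ := S7834.result k (comp η).subscheme (dim_comp k hdim hX hη) h0
  refine ⟨hη, e.inv ≫ (comp η).subschemeι, inferInstance, ?_, ?_⟩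
  · rw [Category.assoc, Iso.inv_comp_eq]
    exact he.symm
  · show Set.range (e.inv ≫ (comp η).subschemeι) = _
    rw [Scheme.Hom.comp_base, TopCat.coe_comp, Set.range_comp,
      (show Function.Surjective e.inv.base from e.inv.homeomorph.surjective).range_eq, Set.image_univ]
    exact TFOneX.range_subschι _ isClosed_closure

omit [ConnectedSpace X] in
/-- A smooth rational component has genus zero. -/
theorem genus_of_isSmRatComp {η : X} (h : CurvSt.IsSmRatComp k X (X ↘ Spec (CommRingCat.of k)) (closure ({η} : Set X))) :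
    genusY k (closure ({η} : Set X)) isClosed_closure = 0 := by
  obtain ⟨-, e, he, hek, hr⟩ := h
  haveI := he
  haveI := CurveCover.isIntegral_line k
  haveI : AlgebraicGeometry.IsReduced (CohB1.ProjSpace 1 k) := isReduced_of_isIntegral _
  have hcl : (⟨Set.range ⇑e, e.isClosedEmbedding.isClosed_range⟩ : Closeds X) = ⟨closure ({η} : Set X), isClosed_closure⟩ :=
    Closeds.ext hr
  have hk : e.ker = comp η :=
    (ker_eq_vI (X := X) (W := CohB1.ProjSpace 1 k) e).trans (congrArg (Scheme.IdealSheafData.vanishingIdeal (X := X)) hcl)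
  rw [genusY_eq_zero_iff]
  let j : CohB1.ProjSpace 1 k ⟶ (comp η).subscheme :=
    IsClosedImmersion.lift (comp η).subschemeι e (by rw [Scheme.IdealSheafData.ker_subschemeι, hk])
  have hj : j ≫ (comp η).subschemeι = e := IsClosedImmersion.lift_fac _ _ _
  haveI : IsIso j := IsClosedImmersion.isIso_of_ker_eq e (comp η).subschemeι j hj
    (by rw [Scheme.IdealSheafData.ker_subschemeι, hk])
  letI := compOver k η
  haveI := CurveCover.isProper_line k
  haveI := CurveCohLib.isNoetherian_of_proper (k := k) (X := CohB1.ProjSpace 1 k)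
  haveI : IsProper ((comp η).subscheme ↘ Spec (CommRingCat.of k)) :=
    inferInstanceAs (IsProper ((comp η).subschemeι ≫ (X ↘ Spec (CommRingCat.of k))))
  haveI : (comp η).subscheme.IsSeparated := ⟨by
    rw [← terminal.comp_from ((comp η).subscheme ↘ Spec (CommRingCat.of k))]
    infer_instance⟩
  refine subsingleton_h1_of_iso k j ?_ (subsingleton_h1_line k)
  show j ≫ (comp η).subschemeι ≫ (X ↘ Spec (CommRingCat.of k)) = _
  rw [← Category.assoc, hj]
  exact hek

include hdim hX in
/-- A point on one component only, smooth there, is not a node. -/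
theorem not_isNode_of_unique {p η : X} (hη : η ∈ genericPoints (X : Type u))
    (hu : ∀ η' ∈ genericPoints (X : Type u), η' ⤳ p → η' = η)
    (hs : Smooth ((comp η).subschemeι ≫ (X ↘ Spec (CommRingCat.of k)))) : ¬ Curv2.IsNode k X p := fun hn => by
  haveI := CurveCohLib.isNoetherian_of_proper (k := k) (X := X)
  haveI := isReduced_of_nodal (k := k) hdim hX
  let C : Set X := closure {η}
  let ι := (comp η).subschemeι
  let V : X.Opens := ⟨(closure Cᶜ)ᶜ, isClosed_closure.isOpen_compl⟩
  have hpV : p ∈ V := fun h => by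
    obtain ⟨η', hη', hη'C, hsp⟩ := closure_compl_subset C isClosed_closure h
    exact hη'C (hu η' hη' hsp ▸ subset_closure rfl)
  haveI : Surjective (ι ∣_ V) := ⟨fun v => by
    obtain ⟨z, hz⟩ : (V.ι v : X) ∈ Set.range ι := (TFOneX.range_subschι C isClosed_closure).symm ▸
      (by_contra fun h => v.2 (subset_closure h))
    refine ⟨⟨z, show ι z ∈ V from hz.symm ▸ v.2⟩, Subtype.ext ?_⟩
    exact (morphismRestrict_base_coe ι V _).trans hz⟩
  haveI : IsClosedImmersion (ι ∣_ V) := IsZariskiLocalAtTarget.restrict (inferInstance : IsClosedImmersion ι) V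
  haveI : IsIso (ι ∣_ V) := isIso_of_isClosedImmersion_of_surjective _
  obtain ⟨z, hz⟩ : p ∈ Set.range ι := (TFOneX.range_subschι C isClosed_closure).symm ▸
    (by_contra fun h => hpV (subset_closure h))
  subst hz
  haveI : IsIso (ι.stalkMap z) := ((MorphismProperty.isomorphisms _).arrow_mk_iso_iff
    (morphismRestrictStalkMap ι V ⟨z, hpV⟩)).1 (show IsIso ((ι ∣_ V).stalkMap ⟨z, hpV⟩) from inferInstance)
  haveI := hs
  haveI : IsRegularLocalRing ((comp η).subscheme.presheaf.stalk z) :=
    GrpSchLib.isRegularLocalRing_stalk_of_smooth ((comp η).subschemeι ≫ (X ↘ Spec (CommRingCat.of k))) z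
  haveI : IsRegularLocalRing (X.presheaf.stalk (ι z)) :=
    IsRegularLocalRing.of_ringEquiv (asIso (ι.stalkMap z)).commRingCatIsoToRingEquiv.symm
  letI := @Curv2.stalkAlgebra k _ X _ (ι z)
  exact NodeFam.not_isRegularLocalRing_of_odp (odp_of_isNode hn) inferInstance

include hdim hX in
/-- For genus zero components: the nodes of a component are its meeting points. -/
theorem meet_eq (h0 : ∀ η ∈ genericPoints (X : Type u), genusY k (closure ({η} : Set X)) isClosed_closure = 0)
    {η : X} (hη : η ∈ genericPoints (X : Type u)) :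
    closure ({η} : Set X) ∩ closure (closure ({η} : Set X))ᶜ = {p | Curv2.IsNode k X p ∧ η ⤳ p} := by
  haveI := CurveCohLib.isNoetherian_of_proper (k := k) (X := X)
  ext p
  constructor
  · intro hp
    have hpc := isClosed_singleton_of_meet hdim.le isClosed_closure hp
    refine ⟨(hX p hpc).resolve_left fun hs => ?_, specializes_iff_mem_closure.2 hp.1⟩
    haveI := CurveGor.isDomain_of_smooth (k := k) hs
    obtain ⟨η', hη', hη'C, hsp⟩ := closure_compl_subset _ isClosed_closure hp.2
    exact hη'C (eq_of_isDomain hη hη' (specializes_iff_mem_closure.2 hp.1) hsp ▸ subset_closure rfl)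
  · rintro ⟨hn, hsp⟩
    obtain ⟨η', hη', hsp', hne⟩ : ∃ η', η' ∈ genericPoints (X : Type u) ∧ η' ⤳ p ∧ η' ≠ η := by
      by_contra hcon
      exact not_isNode_of_unique k hdim hX hη (fun η' h1 h2 => by_contra fun h3 => hcon ⟨η', h1, h2, h3⟩)
        (smooth_comp k hdim hX hη (h0 η hη)) hn
    refine ⟨specializes_iff_mem_closure.1 hsp,
      closure_mono (Set.singleton_subset_iff.2 (show η' ∈ (closure ({η} : Set X))ᶜ from fun h => hne ?_))
        (specializes_iff_mem_closure.1 hsp')⟩
    exact (NormAmpleX.eq_of_specializes_generic hη' (specializes_iff_mem_closure.2 h)).symm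

include hdim hX in
/-- The count for a curve with rational components. -/
theorem node_count (h0 : ∀ η ∈ genericPoints (X : Type u), genusY k (closure ({η} : Set X)) isClosed_closure = 0) :
    {x : X | Curv2.IsNode k X x}.Finite ∧
      {x : X | Curv2.IsNode k X x}.ncard + 1 = (genericPoints (X : Type u)).ncard + Curv2.genus k X := by
  classical
  haveI := CurveCohLib.isNoetherian_of_proper (k := k) (X := X)
  haveI := isReduced_of_nodal (k := k) hdim hX
  let N : Set X := {x : X | Curv2.IsNode k X x}
  have hgen : ∀ p : X, ∃ η ∈ genericPoints (X : Type u), η ⤳ p := fun p => NormAmpleX.exists_generic_specializes p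
  have hGf : (genericPoints (X : Type u)).Finite := CurveGor.finite_genericPoints
  have hNf : N.Finite := by
    refine Set.Finite.subset (s := ⋃ η ∈ genericPoints (X : Type u),
      closure ({η} : Set X) ∩ closure (closure ({η} : Set X))ᶜ) (hGf.biUnion fun η hη => ?_) (fun p hp => ?_)
    · exact CurveCohLib.finite_of_closedPoints (isClosed_closure.inter isClosed_closure)
        fun x hx => isClosed_singleton_of_meet hdim.le isClosed_closure hx
    · obtain ⟨η, hη, hsp⟩ := hgen p
      exact Set.mem_iUnion₂.2 ⟨η, hη, (meet_eq k hdim hX h0 hη).ge ⟨hp, hsp⟩⟩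
  refine ⟨hNf, ?_⟩
  let G := hGf.toFinset
  let M := hNf.toFinset
  have htwo : ∀ p ∈ M, (G.filter fun η => η ⤳ p).card = 2 := fun p hp => by
    have hn : Curv2.IsNode k X p := hNf.mem_toFinset.1 hp
    refine le_antisymm ?_ ?_
    · letI := @Curv2.stalkAlgebra k _ X _ p
      obtain ⟨Q, Q', hQ⟩ := card_minimal_le_two (odp_of_isNode hn)
      have hmem : ∀ η ∈ G.filter fun η => η ⤳ p, ∃ z : PrimeSpectrum (X.presheaf.stalk p),
          (z.asIdeal = Q ∨ z.asIdeal = Q') ∧ X.fromSpecStalk p z = η := fun η hη => by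
        obtain ⟨h1, h2⟩ := Finset.mem_filter.1 hη
        obtain ⟨z, hz, he⟩ := exists_minimal (hGf.mem_toFinset.1 h1) h2
        exact ⟨z, hQ _ hz, he⟩
      choose! z hz hze using hmem
      refine (Finset.card_le_card_of_injOn (fun η => (z η).asIdeal) (t := {Q, Q'}) (fun η hη => ?_)
        fun a ha b hb h => ?_).trans Finset.card_le_two
      · simpa using hz η hη
      · rw [← hze a ha, ← hze b hb, PrimeSpectrum.ext h]
    · obtain ⟨η, hη, hsp⟩ := hgen p
      obtain ⟨-, hp2⟩ := (meet_eq k hdim hX h0 hη).ge ⟨hn, hsp⟩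
      obtain ⟨η', hη', hη'C, hsp'⟩ := closure_compl_subset _ isClosed_closure hp2
      exact Finset.one_lt_card.2 ⟨η, Finset.mem_filter.2 ⟨hGf.mem_toFinset.2 hη, hsp⟩, η',
        Finset.mem_filter.2 ⟨hGf.mem_toFinset.2 hη', hsp'⟩, fun h => hη'C (h ▸ subset_closure rfl)⟩
  have hk : ∀ η ∈ G, kY k (closure ({η} : Set X)) isClosed_closure = ((M.filter fun p => η ⤳ p).card : ℤ) :=
    fun η hη => by
      have hη' := hGf.mem_toFinset.1 hη
      rw [kY_eq_card hdim.le hX isClosed_closure (isCompUnion_closure hη'), Nat.card_coe_set_eq,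
        meet_eq k hdim hX h0 hη', ← Set.ncard_coe_finset, Finset.coe_filter]
      congr 2
      ext p
      simp [M, N]
  have hsum : ∑ η ∈ G, kY k (closure ({η} : Set X)) isClosed_closure = 2 * (M.card : ℤ) := by
    rw [Finset.sum_congr rfl hk]
    have hsc : (∑ η ∈ G, (M.filter fun p => η ⤳ p).card) = 2 * M.card := by
      simp only [Finset.card_filter]
      rw [Finset.sum_comm, Finset.sum_congr rfl fun p hp => (Finset.card_filter (fun η => η ⤳ p) G).symm.trans (htwo p hp),
        Finset.sum_const, smul_eq_mul, mul_comm]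
    exact_mod_cast hsc
  obtain ⟨ω, t, ht, hωi⟩ := exists_invertible_dual k X hdim hX
  have hg := notClosed_of_generic (k := k) hdim
  have hcU : IsCompUnion (Set.univ : Set X) := fun x _ =>
    let ⟨η, hη, hsp⟩ := hgen x; ⟨η, hη, trivial, hsp⟩
  have e1 := degOn_eq_sum (k := k) hdim.le hωi Set.univ isClosed_univ hcU G fun η => by simp [G]
  rw [degOn_dualizing hdim.le hg ht hωi isClosed_univ hcU, kY_eq_card hdim.le hX isClosed_univ hcU,
    chiY_univ (k := k), euler_structure_eq (k := k) hdim.le] at e1
  have e2 : Nat.card (Set.univ ∩ closure (Set.univ : Set X)ᶜ : Set X) = 0 := by simp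
  rw [e2, Finset.sum_congr rfl fun η hη => by
      rw [degOn_dualizing hdim.le hg ht hωi isClosed_closure (isCompUnion_closure (hGf.mem_toFinset.1 hη)),
        chiY_eq hdim.le isClosed_closure isIrreducible_singleton.closure.isConnected,
        h0 η (hGf.mem_toFinset.1 hη)],
    Finset.sum_add_distrib, Finset.sum_const, hsum, nsmul_eq_mul] at e1
  rw [Set.ncard_eq_toFinset_card _ hNf, Set.ncard_eq_toFinset_card _ hGf]
  push_cast at e1
  change M.card + 1 = G.card + _
  omega

end Groth.Agent.CurveTree
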