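import Groth.Agent.CurveTree.Grow
import Groth.Agent.CurveDual.Props

/-!
# Hypotheses phrased with ideals; vanishing through a subcurve
-/

set_option autoImplicit false
set_option linter.style.haveILetI false
set_option linter.unusedSectionVars false
set_option backward.isDefEq.respectTransparency false
set_option backward.isDefEq.respectTransparency.types false
set_option maxHeartbeats 1000000
set_option synthInstance.maxHeartbeats 200000

universe u

open CategoryTheory CategoryTheory.Limits AlgebraicGeometry TopologicalSpace Opposite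

noncomputable section

namespace Groth.Agent.CurveTree

open Groth.Agent CurveGor

attribute [local instance] HasDerivedCategory.standard

variable {X : Scheme.{u}} (k : Type u) [Field k] [IsAlgClosed k] [X.Over (Spec (CommRingCat.of k))]
  [IsProper (X ↘ Spec (CommRingCat.of k))] [ConnectedSpace X]
  (hdim : topologicalKrullDim X = 1) (hX : Curv2.AtWorstNodal k X)

include hdim hX in
/-- The components, as ideals. -/
theorem comp_data {η : X} (hη : η ∈ genericPoints (X : Type u)) :
    IsIntegral (comp η).subscheme ∧ topologicalKrullDim ((comp η).support : Set X) = 1 ∧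
      ((comp η).support : Set X) = closure {η} := by
  have hs : ((comp η).support : Set X) = closure {η} := Scheme.IdealSheafData.coe_support_vanishingIdeal _
  refine ⟨CurveGor.isIntegral_closure (k := k) η, ?_, hs⟩
  rw [← dim_comp k hdim hX hη, ← (comp η).range_subschemeι]
  exact ((comp η).subschemeι.isEmbedding.toHomeomorph).isHomeomorph.topologicalKrullDim_eq.symm

include k hdim in
/-- A union of one-dimensional integral closed subschemes is a union of components. -/
theorem isCompUnion_support (R : X.IdealSheafData)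
    (hunion : ∀ x ∈ (R.support : Set X), ∃ Z : X.IdealSheafData, IsIntegral Z.subscheme ∧
      topologicalKrullDim (Z.support : Set X) = 1 ∧ (Z.support : Set X) ⊆ R.support ∧ x ∈ (Z.support : Set X)) :
    IsCompUnion (R.support : Set X) := fun x hx => by
  obtain ⟨Z, hZi, hZd, hZs, hxZ⟩ := hunion x hx
  obtain ⟨η, hη, he⟩ := exists_generic_of_component k hdim.le Z hZi hZd
  exact ⟨η, hη, hZs (he.ge (subset_closure (Set.mem_singleton η))), specializes_iff_mem_closure.2 (he.le hxZ)⟩

theorem isConnected_support {Y : Scheme.{u}} (R : Y.IdealSheafData) [ConnectedSpace R.subscheme] :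
    _root_.IsConnected (R.support : Set Y) := by
  rw [← R.range_subschemeι]
  exact isConnected_range R.subschemeι.continuous

theorem smul_toSub {Y : Scheme.{u}} (I : Y.IdealSheafData) (r : Γ(Y, ⊤)) :
    (ClSub.toSubscheme I).app ⊤ r = I.subschemeι.appTop.hom r := rfl

include hdim hX in
/-- A map from a generated module to `O` that vanishes on a nonempty subcurve vanishes. -/
theorem eq_zero_of_restrict {E : X.Modules} (hgg : Curv2.IsGloballyGenerated E) (I : X.IdealSheafData)
    [Nonempty I.subscheme] (ψ : E ⟶ Coh.structureModule X) (h0 : ψ ≫ ClSub.toSubscheme I = 0) : ψ = 0 := by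
  haveI := isReduced_of_nodal (k := k) hdim hX
  refine DefAmple18.gg_elim hgg _ ψ fun s => ?_
  let f : Coh.structureModule X ⟶ Coh.structureModule X := s ≫ ψ
  obtain ⟨c, hc⟩ := surjective_const k (X := X) (show Γ(X, ⊤) from f.app ⊤ (1 : Γ(X, ⊤)))
  have hIc : I.subschemeι.appTop.hom (show Γ(X, ⊤) from f.app ⊤ (1 : Γ(X, ⊤))) = 0 := by
    have : (f ≫ ClSub.toSubscheme I) = 0 := by rw [Category.assoc, h0, comp_zero]
    exact congr(($this).app ⊤ (1 : Γ(X, ⊤)))
  have hc0 : c = 0 := by
    by_contra hne
    have hu : IsUnit (I.subschemeι.appTop.hom (show Γ(X, ⊤) from f.app ⊤ (1 : Γ(X, ⊤)))) := by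
      rw [← hc]
      exact (((isUnit_iff_ne_zero.2 hne).map _).map _).map _
    rw [hIc] at hu
    haveI : Nontrivial Γ(I.subscheme, ⊤) := by
      obtain ⟨z⟩ := ‹Nonempty I.subscheme›
      exact (I.subscheme.presheaf.germ ⊤ z trivial).hom.domain_nontrivial
    exact not_isUnit_zero hu
  have h1 : (show Γ(X, ⊤) from f.app ⊤ (1 : Γ(X, ⊤))) = 0 := by rw [← hc, hc0, map_zero, map_zero]
  refine Scheme.Modules.hom_ext _ _ fun U => ?_
  ext a
  have h2 : f.app U (1 : Γ(X, U)) = 0 := by
    have := QCoh.map_app_comm f (homOfLE (le_top : U ≤ ⊤)) (1 : Γ(X, ⊤))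
    rw [show (f.app ⊤ (1 : Γ(X, ⊤))) = 0 from h1, map_zero] at this
    refine Eq.trans ?_ this
    exact congrArg _ (map_one (X.presheaf.map (homOfLE (le_top : U ≤ ⊤)).op).hom).symm
  show f.app U a = 0
  calc f.app U a = f.app U ((show Γ(X, U) from a) • (1 : Γ(X, U))) := congrArg _ (mul_one (show Γ(X, U) from a)).symm
    _ = (show Γ(X, U) from a) • f.app U (1 : Γ(X, U)) :=
        Scheme.Modules.Hom.app_smul (M := Coh.structureModule X) f _ _
    _ = 0 := by rw [h2, smul_zero]

include hdim hX in
/-- Twisting by an invertible module is faithful and full. -/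
theorem exists_untwist {ω : X.Modules} (hω : PicF.IsInvertible ω) {E : X.Modules}
    (φ : (SheafHomX.ten ω).obj E ⟶ ω) :
    ∃ ψ : E ⟶ Coh.structureModule X, φ = (SheafHomX.ten ω).map ψ ≫ (CurveTensor.structureTensorIso ω).hom := by
  haveI := H23.Chern.isEquivalence_ten hω
  haveI : (SheafHomX.ten ω).IsEquivalence :=
    Functor.isEquivalence_of_iso ((KFlatLib.tensorBiFlipIso X).app ω).symm
  obtain ⟨ψ, hψ⟩ := (SheafHomX.ten ω).map_surjective (φ ≫ (CurveTensor.structureTensorIso ω).inv)
  exact ⟨ψ, by rw [hψ, Category.assoc, Iso.inv_hom_id, Category.comp_id]⟩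

include hdim hX in
theorem twist_injective {ω : X.Modules} (hω : PicF.IsInvertible ω) {A B : X.Modules} (f : A ⟶ B)
    (h : (SheafHomX.ten ω).map f = 0) : f = 0 := by
  haveI := H23.Chern.isEquivalence_ten hω
  haveI : (SheafHomX.ten ω).IsEquivalence :=
    Functor.isEquivalence_of_iso ((KFlatLib.tensorBiFlipIso X).app ω).symm
  haveI := (SheafHomX.adj ω).isLeftAdjoint
  exact (SheafHomX.ten ω).map_injective (h.trans ((SheafHomX.ten ω).map_zero A B).symm)

end Groth.Agent.CurveTree
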