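import Groth.Agent.CurveTree.Sub
import Groth.Agent.S17651
import Groth.Agent.DefAmple18.Main
import Groth.Agent.S2286
import Groth.Agent.QCoh.Support
import Groth.Agent.ParShLib.Along

/-!
# Growing a subcurve of a rational tree one component at a time
-/

set_option autoImplicit false
set_option linter.style.haveILetI false
set_option linter.unusedSectionVars false
set_option backward.isDefEq.respectTransparency false
set_option backward.isDefEq.respectTransparency.types false
set_option maxHeartbeats 1000000
set_option synthInstance.maxHeartbeats 200000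

universe u

open CategoryTheory CategoryTheory.Limits AlgebraicGeometry TopologicalSpace Opposite

noncomputable section

namespace Groth.Agent.CurveTree

open Groth.Agent CurveGor
open Groth.Agent.PnCoh.Finite (mapLin deltaLin)

attribute [local instance] HasDerivedCategory.standard

variable {X : Scheme.{u}}

/-- Pushforward along closed immersions keeps quasi-coherent epimorphisms. -/
theorem epi_push_closed {W : Scheme.{u}} (i : W ⟶ X) [IsClosedImmersion i] {A B : W.Modules}
    (hA : Coh.IsQCoh A) (hB : Coh.IsQCoh B) (q : A ⟶ B) [Epi q] : Epi ((Coh.push i).map q) := by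
  refine Preadditive.epi_of_cancel_zero _ fun {T} g hg => QCoh.hom_eq_zero_of_affine _ fun U hU y => ?_
  obtain ⟨x, hx⟩ := QCoh.app_surjective_of_epi hA hB q (hU.preimage i) y
  rw [← show ((Coh.push i).map q).app U x = y from hx]
  exact congr(($hg).app U x)

/-- The pushforward of a generated bundle from a closed subscheme is generated. -/
theorem gg_push (k : Type u) [Field k] (I : X.IdealSheafData)
    [I.subscheme.Over (Spec (CommRingCat.of k))] [IsProper (I.subscheme ↘ Spec (CommRingCat.of k))]
    {F : I.subscheme.Modules} (hF : FlatMod.IsFinLocFree F) (hgg : Curv2.IsGloballyGenerated F) :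
    Euler.GG ((Coh.push I.subschemeι).obj F) := by
  obtain ⟨n, q, hq⟩ := S17650.exists_epi_free k hF hgg
  haveI := hq
  have hfr : Coh.IsQCoh (FlatMod.freeMod I.subscheme n) :=
    QCoh.isQCoh_of_isFinLocFree (KFlatLib.isFinLocFree_freeMod n)
  haveI := epi_push_closed I.subschemeι hfr (QCoh.isQCoh_of_isFinLocFree hF) q
  haveI : PreservesFiniteLimits (Coh.push I.subschemeι) := QCoh.preservesFiniteLimits_push I.subschemeι
  haveI : PreservesBinaryBiproducts (Coh.push I.subschemeι) :=
    preservesBinaryBiproducts_of_preservesBinaryProducts _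
  haveI : (Coh.push I.subschemeι).Additive := Functor.additive_of_preservesBinaryBiproducts _
  haveI : PreservesColimit (Discrete.functor fun _ : Fin n => Coh.structureModule I.subscheme) (Coh.push I.subschemeι) := by
    haveI := preservesCoproductsOfShape_of_preservesBiproductsOfShape (J := Fin n) (Coh.push I.subschemeι)
    infer_instance
  refine DefAmple18.gg_of_epi ((PreservesCoproduct.iso (Coh.push I.subschemeι)
    (fun _ : Fin n => Coh.structureModule I.subscheme)).inv ≫ (Coh.push I.subschemeι).map q) ?_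
  haveI := CurvePoint.epi_toSubscheme I
  refine DefAmple18.gg_sigma (ι := Fin n) (DefAmple18.gg_of_epi (ClSub.toSubscheme I) fun T g hg => ?_)
  have := hg (𝟙 _)
  rwa [Category.id_comp] at this

variable (k : Type u) [Field k] [IsAlgClosed k] [X.Over (Spec (CommRingCat.of k))]
  [IsProper (X ↘ Spec (CommRingCat.of k))] [ConnectedSpace X]
  (hdim : topologicalKrullDim X = 1) (hX : Curv2.AtWorstNodal k X)
  (hg : Subsingleton (Coh.HH X (Coh.structureModule X) 1))

omit [IsAlgClosed k] [IsProper (X ↘ Spec (CommRingCat.of k))] [ConnectedSpace X] in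
theorem subOver_comp (I : X.IdealSheafData) :
    letI : I.subscheme.Over (Spec (CommRingCat.of k)) := ⟨I.subschemeι ≫ (X ↘ Spec (CommRingCat.of k))⟩
    I.subschemeι ≫ (X ↘ Spec (CommRingCat.of k)) = I.subscheme ↘ Spec (CommRingCat.of k) := rfl

include k hdim hX in
/-- Constants surject onto the functions of a connected subcurve. -/
theorem surjective_toSubscheme_top {Y : Set X} (hY : IsClosed Y) (hconn : _root_.IsConnected Y) :
    Function.Surjective ((ClSub.toSubscheme (vI Y hY)).app ⊤) := by
  intro v
  letI : (vI Y hY).subscheme.Over (Spec (CommRingCat.of k)) :=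
    ⟨(vI Y hY).subschemeι ≫ (X ↘ Spec (CommRingCat.of k))⟩
  haveI : IsProper ((vI Y hY).subscheme ↘ Spec (CommRingCat.of k)) :=
    inferInstanceAs (IsProper ((vI Y hY).subschemeι ≫ (X ↘ Spec (CommRingCat.of k))))
  haveI := isReduced_of_nodal (k := k) hdim hX
  haveI := connectedSpace_subscheme hY hconn
  obtain ⟨c, hc⟩ := surjective_const k (X := (vI Y hY).subscheme) (show Γ((vI Y hY).subscheme, ⊤) from v)
  refine ⟨(X ↘ Spec (CommRingCat.of k)).appTop.hom ((Scheme.ΓSpecIso (CommRingCat.of k)).inv.hom c), ?_⟩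
  refine Eq.trans ?_ hc
  rw [← subOver_comp k (vI Y hY), Scheme.Hom.comp_appTop, CommRingCat.hom_comp, RingHom.comp_apply]
  rfl

include hdim hX hg in
/-- An adjacent component contributes nothing when the bundle is generated on it. -/
theorem exists_step {E : X.Modules} (hE : FlatMod.IsFinLocFree E) {Y : Set X} (hY : IsClosed Y)
    (hc : IsCompUnion Y) (hconn : _root_.IsConnected Y) {η : X} (hη : η ∈ genericPoints (X : Type u))
    (hηY : η ∉ Y) (hne : (closure ({η} : Set X) ∩ Y).Nonempty)
    (hgg : Curv2.IsGloballyGenerated ((Scheme.Modules.pullback (comp η).subschemeι).obj E)) :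
    ∃ q : ClSub.quotMod (vI (Y ∪ closure ({η} : Set X)) (hY.union isClosed_closure)) ⟶ ClSub.quotMod (vI Y hY),
      ClSub.toSubscheme (vI (Y ∪ closure ({η} : Set X)) (hY.union isClosed_closure)) ≫ q =
        ClSub.toSubscheme (vI Y hY) ∧ Epi q ∧
      Subsingleton (Coh.HH X ((DCoh.tensorBi.obj E).obj (kernel q)) 1) := by
  haveI := CurveCohLib.isNoetherian_of_proper (k := k) (X := X)
  haveI := isReduced_of_nodal (k := k) hdim hX
  let Z : Set X := closure ({η} : Set X)
  let Y' : Set X := Y ∪ Z
  have hY' : IsClosed Y' := hY.union isClosed_closure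
  have hconn' : _root_.IsConnected Y' := by
    refine IsConnected.union ?_ hconn isIrreducible_singleton.closure.isConnected
    obtain ⟨p, h1, h2⟩ := hne
    exact ⟨p, h2, h1⟩
  have hinf : comp η ⊓ vI Y hY = vI Y' hY' := by
    rw [← Scheme.IdealSheafData.vanishingIdeal_sup]
    exact congrArg _ (Closeds.ext (Set.union_comm _ _))
  obtain ⟨q, hq⟩ := exists_quot (X := X) (hinf ▸ inf_le_right : vI Y' hY' ≤ vI Y hY)
  haveI : Epi (ClSub.toSubscheme (vI Y hY)) := CurvePoint.epi_toSubscheme _
  haveI : Epi q := by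
    haveI : Epi (ClSub.toSubscheme (vI Y' hY') ≫ q) := by rw [hq]; infer_instance
    exact epi_of_epi (ClSub.toSubscheme (vI Y' hY')) q
  refine ⟨q, hq, inferInstance, ?_⟩
  -- the meeting on the component
  let W := (comp η).subscheme
  letI : W.Over (Spec (CommRingCat.of k)) := compOver k η
  haveI : IsProper (W ↘ Spec (CommRingCat.of k)) :=
    inferInstanceAs (IsProper ((comp η).subschemeι ≫ (X ↘ Spec (CommRingCat.of k))))
  haveI := connectedSpace_subscheme (Y := Z) isClosed_closure isIrreducible_singleton.closure.isConnected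
  haveI := CurveCohLib.isNoetherian_of_proper (k := k) (X := W)
  let T : Set W := (comp η).subschemeι ⁻¹' Y
  have hT : IsClosed T := hY.preimage (comp η).subschemeι.continuous
  let P : W.IdealSheafData := vI T hT
  have hP : (P.subschemeι ≫ (comp η).subschemeι).ker = comp η ⊔ vI Y hY := by
    rw [sup_eq_vI_inter k hdim hX hη hY hc hηY]
    refine (ker_eq_vI (P.subschemeι ≫ (comp η).subschemeι)).trans
      (congrArg (Scheme.IdealSheafData.vanishingIdeal (X := X)) (Closeds.ext ?_))
    show Set.range (P.subschemeι ≫ (comp η).subschemeι) = Z ∩ Y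
    rw [Scheme.Hom.comp_base, TopCat.coe_comp, Set.range_comp,
      (TFOneX.range_subschι T hT : Set.range P.subschemeι = T), Set.image_preimage_eq_range_inter,
      (TFOneX.range_subschι Z isClosed_closure : Set.range (comp η).subschemeι = Z)]
  obtain ⟨u⟩ := nonempty_kernel_iso (vI Y' hY') (comp η) (vI Y hY) hinf q hq P hP
  have hS : (ShortComplex.mk (kernel.ι q) q (kernel.condition q)).ShortExact :=
    { exact := ShortComplex.exact_of_f_is_kernel _ (kernelIsKernel q)
      mono_f := inferInstance
      epi_g := inferInstanceAs (Epi q) }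
  have hgY' : Subsingleton (Coh.HH X (ClSub.quotMod (vI Y' hY')) 1) :=
    haveI := CurvePoint.epi_toSubscheme (vI Y' hY')
    DefAmple18.subsingleton_H1_of_epi (k := k) hdim.le (ClSub.toSubscheme (vI Y' hY'))
      QCoh.isQCoh_structureModule (ParShLib.isCoh_quotMod _).1 hg
  have hker : Subsingleton (Coh.HH X (kernel q) 1) := by
    refine LerayCorner.subsingleton_HH_one_of_surjective hS (fun z => ?_) hgY'
    obtain ⟨r, hr⟩ := surjective_toSubscheme_top k hdim hX hY hconn z
    exact ⟨(ClSub.toSubscheme (vI Y' hY')).app ⊤ r, (congr(($hq).app ⊤ r)).trans hr⟩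
  haveI : IsLocallyNoetherian W := inferInstance
  obtain ⟨l⟩ := PnCoh.exists_linearEquiv_push k (comp η).subschemeι (subOver_comp k (comp η))
    (NormalLib.isCoh_idealMod P).1 1
  have hIP : Subsingleton (Coh.HH W (ClSub.idealMod P) 1) :=
    @Equiv.subsingleton _ _ (l.trans (CurveCohLib.hhEquiv (k := k) u 1).symm).toEquiv hker
  -- the meeting is one point
  have hsub : T.Subsingleton := by
    intro a ha b hb
    by_contra hab
    have hfin : T.Finite := CurveCohLib.finite_of_closedPoints hT fun x hx => by
      have hx' : (comp η).subschemeι x ∈ Z ∩ closure Zᶜ := by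
        refine ⟨(TFOneX.range_subschι Z isClosed_closure).le (Set.mem_range_self x), ?_⟩
        obtain ⟨ξ, hξ, hξY, hsp⟩ := hc _ hx
        refine closure_mono (Set.singleton_subset_iff.2 (show ξ ∈ Zᶜ from fun h => hηY ?_))
          (specializes_iff_mem_closure.1 hsp)
        rw [NormAmpleX.eq_of_specializes_generic hξ (specializes_iff_mem_closure.2 h)]
        exact hξY
      have hcl := (isClosed_singleton_of_meet hdim.le isClosed_closure hx').preimage (comp η).subschemeι.continuous
      have : ({x} : Set W) = (comp η).subschemeι ⁻¹' {(comp η).subschemeι x} :=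
        Set.ext fun z => ⟨fun h => congrArg _ h, fun h => (comp η).subschemeι.isClosedEmbedding.injective h⟩
      rw [this]
      exact hcl
    let S := P.subscheme
    have hr : Set.range P.subschemeι = T := TFOneX.range_subschι T hT
    haveI : Finite S := by
      haveI := hfin.to_subtype
      exact Finite.of_injective (fun s => (⟨P.subschemeι s, hr.le (Set.mem_range_self s)⟩ : T))
        fun s s' h => P.subschemeι.isClosedEmbedding.injective (congrArg Subtype.val h)
    haveI : T1Space S := ⟨fun s => by
      have hcl : IsClosed ({P.subschemeι s} : Set W) := by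
        have hsT := hr.le (Set.mem_range_self s)
        haveI : JacobsonSpace W := LocallyOfFiniteType.jacobsonSpace (W ↘ Spec (CommRingCat.of k))
        exact CurveGor.isClosed_of_finite (k := k) hfin hT hsT
      have : ({s} : Set S) = P.subschemeι ⁻¹' {P.subschemeι s} :=
        Set.ext fun z => ⟨fun h => congrArg _ h, fun h => P.subschemeι.isClosedEmbedding.injective h⟩
      rw [this]
      exact hcl.preimage P.subschemeι.continuous⟩
    haveI : DiscreteTopology S := inferInstance
    obtain ⟨a', rfl⟩ := hr.ge ha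
    obtain ⟨b', rfl⟩ := hr.ge hb
    obtain ⟨e, he1, he0⟩ := CurveGor.exists_indicator (X := S) {a'} (isClopen_discrete _)
    haveI := CurvePoint.epi_toSubscheme P
    obtain ⟨w, hw⟩ := QCoh.app_top_surjective_of_HH_one (DivisorExt.ideal_shortExact P) hIP
      (show Γ(ClSub.quotMod P, ⊤) from e)
    haveI : AlgebraicGeometry.IsReduced W := inferInstance
    obtain ⟨c, hc'⟩ := surjective_const k (X := W) (show Γ(W, ⊤) from w)
    let φ : k →+* Γ(S, ⊤) := P.subschemeι.appTop.hom.comp
      ((W ↘ Spec (CommRingCat.of k)).appTop.hom.comp (Scheme.ΓSpecIso (CommRingCat.of k)).inv.hom)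
    have hφ : φ c = e := by
      show P.subschemeι.appTop.hom _ = _
      rw [RingHom.comp_apply, hc']
      exact hw
    have hb0 : S.presheaf.germ ⊤ b' trivial e = 0 := he0 b' fun h => hab (congrArg P.subschemeι (show b' = a' from h)).symm
    have ha1 : S.presheaf.germ ⊤ a' trivial e = 1 := he1 a' rfl
    rw [← hφ] at hb0 ha1
    rcases eq_or_ne c 0 with h0 | h0
    · rw [h0, map_zero, map_zero] at ha1
      exact zero_ne_one ha1
    · have hu : IsUnit (S.presheaf.germ ⊤ b' trivial (φ c)) := ((isUnit_iff_ne_zero.2 h0).map φ).map _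
      rw [hb0] at hu
      exact not_isUnit_zero hu
  obtain ⟨p, hpZ, hpY⟩ := hne
  obtain ⟨z, hz⟩ : p ∈ Set.range (comp η).subschemeι := (TFOneX.range_subschι Z isClosed_closure).symm ▸ hpZ
  have hTz : T = {z} := hsub.eq_singleton_of_mem (show (comp η).subschemeι z ∈ Y from hz ▸ hpY)
  have hzc : IsClosed ({z} : Set W) := hTz ▸ hT
  have hPz : P = Scheme.IdealSheafData.vanishingIdeal (⟨{z}, hzc⟩ : Closeds W) :=
    congrArg (Scheme.IdealSheafData.vanishingIdeal (X := W)) (Closeds.ext hTz)
  obtain ⟨hdW, hnW⟩ := sub_nodal k hdim hX (Y := Z) isClosed_closure (isCompUnion_closure hη)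
    isIrreducible_singleton.closure.isConnected
  have hgW : Subsingleton (Coh.HH W (Coh.structureModule W) 1) :=
    (genusY_eq_zero_iff (k := k) Z isClosed_closure).1 (genusY_eq_zero (k := k) hdim.le hg Z isClosed_closure)
  have hEW := CanonEval.isFinLocFree_pullback (comp η).subschemeι hE
  have hv := S17651.result k W hdW hnW hgW _ hEW hgg z hzc
  rw [← hPz] at hv
  obtain ⟨p₁⟩ := nonempty_push_tensor (comp η).subschemeι hE (ClSub.idealMod P)
  haveI : X.IsSeparated := ⟨by
    rw [← terminal.comp_from (X ↘ Spec (CommRingCat.of k))]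
    infer_instance⟩
  obtain ⟨l₁⟩ := PnCoh.exists_linearEquiv_push k (comp η).subschemeι (subOver_comp k (comp η))
    (CurveTensor.isCoh_tensor hEW (NormalLib.isCoh_idealMod P)).1 1
  exact @Equiv.subsingleton _ _
    ((CurveCohLib.hhEquiv (k := k) ((DCoh.tensorBi.obj E).mapIso u ≪≫ p₁) 1).trans l₁.symm).toEquiv hv

include hdim hX hg in
/-- Restriction to a connected subcurve with generated bundle outside: onto on sections, bijective on `H¹`. -/
theorem grow {E : X.Modules} (hE : FlatMod.IsFinLocFree E) :
    ∀ (n : ℕ) (Y : Set X) (hY : IsClosed Y), IsCompUnion Y → _root_.IsConnected Y →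
      {η | η ∈ genericPoints (X : Type u) ∧ η ∉ Y}.ncard = n →
      (∀ η ∈ genericPoints (X : Type u), η ∉ Y →
        Curv2.IsGloballyGenerated ((Scheme.Modules.pullback (comp η).subschemeι).obj E)) →
      Function.Bijective (mapLin k ((DCoh.tensorBi.obj E).map (ClSub.toSubscheme (vI Y hY))) 1) ∧
        Function.Surjective (mapLin k ((DCoh.tensorBi.obj E).map (ClSub.toSubscheme (vI Y hY))) 0) := by
  haveI := CurveCohLib.isNoetherian_of_proper (k := k) (X := X)
  haveI := isReduced_of_nodal (k := k) hdim hX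
  haveI : X.IsSeparated := ⟨by
    rw [← terminal.comp_from (X ↘ Spec (CommRingCat.of k))]
    infer_instance⟩
  intro n
  induction n using Nat.strong_induction_on with
  | _ n ih =>
  intro Y hY hc hconn hn hgg
  let T := DCoh.tensorBi.obj E
  by_cases hu : Y = Set.univ
  · subst hu
    haveI : IsIso (ClSub.toSubscheme (vI (Set.univ : Set X) hY)) := by
      refine QCoh.isIso_of_isBasis _ (B := {W | IsAffineOpen W}) X.isBasis_affineOpens fun U hU => ?_
      refine ⟨(injective_iff_map_eq_zero _).2 fun r hr => ?_,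
        fun y => (vI (Set.univ : Set X) hY).subschemeι_app_surjective ⟨U, hU⟩ y⟩
      have h1 := (hker_iff (vI (Set.univ : Set X) hY) ⟨U, hU⟩ r).1 hr
      have hb : vI (Set.univ : Set X) hY = ⊥ := by
        show Scheme.IdealSheafData.vanishingIdeal ⊤ = ⊥
        rw [Scheme.IdealSheafData.vanishingIdeal_top, Scheme.nilradical_eq_bot]
      rw [hb, Scheme.IdealSheafData.ideal_bot] at h1
      exact (Submodule.mem_bot _).1 h1
    have hb : ∀ j, Function.Bijective (mapLin k (T.map (ClSub.toSubscheme (vI (Set.univ : Set X) hY))) j) :=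
      fun j => (CurveCohLib.hhEquiv (k := k) (asIso (T.map (ClSub.toSubscheme (vI (Set.univ : Set X) hY)))) j).bijective
    exact ⟨hb 1, (hb 0).2⟩
  obtain ⟨η, hη, hηY, hne⟩ := exists_adjacent k hY hconn.nonempty hu
  obtain ⟨q, hq, hqe, hK⟩ := exists_step k hdim hX hg hE hY hc hconn hη hηY hne (hgg η hη hηY)
  haveI := hqe
  let Y' : Set X := Y ∪ closure ({η} : Set X)
  have hY' : IsClosed Y' := hY.union isClosed_closure
  have hlt : {ξ | ξ ∈ genericPoints (X : Type u) ∧ ξ ∉ Y'}.ncard < n := by
    rw [← hn]
    refine Set.ncard_lt_ncard ?_ (CurveGor.finite_genericPoints.subset fun ξ h => h.1)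
    refine ⟨fun ξ h => ⟨h.1, fun h' => h.2 (Or.inl h')⟩, fun h => ?_⟩
    exact (h (show η ∈ {ξ | ξ ∈ genericPoints (X : Type u) ∧ ξ ∉ Y} from ⟨hη, hηY⟩)).2 (Or.inr (subset_closure rfl))
  obtain ⟨hb', hs'⟩ := ih _ hlt Y' hY' (isCompUnion_insert hη hc)
    (IsConnected.union (by obtain ⟨p, h1, h2⟩ := hne; exact ⟨p, h2, h1⟩) hconn
      isIrreducible_singleton.closure.isConnected)
    rfl (fun ξ hξ h => hgg ξ hξ fun h' => h (Or.inl h'))
  have hS := CurveTensor.shortExact_tensor hE (kernel.ι q) q (kernel.condition q)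
    { exact := ShortComplex.exact_of_f_is_kernel _ (kernelIsKernel q)
      mono_f := inferInstance
      epi_g := inferInstanceAs (Epi q) }
  have hcK : Coh.IsCoh (kernel q) :=
    QCoh.isCoh_kernel (ParShLib.isCoh_quotMod _) (ParShLib.isCoh_quotMod _) q
  haveI hK2 : Subsingleton (Coh.HH X (T.obj (kernel q)) (1 + 1)) :=
    Snapper.subsingleton_HH_of_dim_le (d := 1) hdim.le (CurveTensor.isCoh_tensor hE hcK).1 one_lt_two
  haveI := hK
  have hb : Function.Bijective (mapLin k (T.map q) 1) := by
    refine ⟨?_, ?_⟩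
    · rw [← LinearMap.ker_eq_bot]
      refine (CurveCohLib.ker_mapLin_g k hS 1).trans ?_
      rw [LinearMap.range_eq_bot]
      exact LinearMap.ext fun x => by rw [Subsingleton.elim x 0, map_zero, LinearMap.zero_apply]
    · rw [← LinearMap.range_eq_top]
      refine (Euler.range_mapLin_g k hS 1).trans ?_
      rw [LinearMap.ker_eq_top]
      exact LinearMap.ext fun x => Subsingleton.elim _ _
  have hs : Function.Surjective (mapLin k (T.map q) 0) := by
    rw [← LinearMap.range_eq_top]
    refine (Euler.range_mapLin_g k hS 0).trans ?_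
    rw [LinearMap.ker_eq_top]
    exact LinearMap.ext fun x => Subsingleton.elim (α := Coh.HH X (T.obj (kernel q)) 1) _ _
  have hcomp : ∀ (j : ℕ) (x : Coh.HH X (T.obj (Coh.structureModule X)) j),
      mapLin k (T.map q) j (mapLin k (T.map (ClSub.toSubscheme (vI Y' hY'))) j x) =
        mapLin k (T.map (ClSub.toSubscheme (vI Y hY))) j x := fun j x =>
    PnCoh.Finite.map_map (Y := X.toPresheafedSpace.carrier)
      (((QCoh.toAbFunctor X).map_comp _ _).symm.trans
        (congrArg (QCoh.toAbFunctor X).map ((T.map_comp _ _).symm.trans (congrArg T.map hq)))) j x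
  refine ⟨?_, ?_⟩
  · rw [show (mapLin k (T.map (ClSub.toSubscheme (vI Y hY))) 1 : _ → _) =
      mapLin k (T.map q) 1 ∘ mapLin k (T.map (ClSub.toSubscheme (vI Y' hY'))) 1 from funext fun x => (hcomp 1 x).symm]
    exact hb.comp hb'
  · rw [show (mapLin k (T.map (ClSub.toSubscheme (vI Y hY))) 0 : _ → _) =
      mapLin k (T.map q) 0 ∘ mapLin k (T.map (ClSub.toSubscheme (vI Y' hY'))) 0 from funext fun x => (hcomp 0 x).symm]
    exact hs.comp hs'

include hdim hX hg in
/-- `h¹` only sees a connected subcurve outside which the bundle is generated. -/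
theorem finrank_h1_eq {E : X.Modules} (hE : FlatMod.IsFinLocFree E) (Y : Set X) (hY : IsClosed Y)
    (hc : IsCompUnion Y) (hconn : _root_.IsConnected Y)
    (hgg : ∀ η ∈ genericPoints (X : Type u), η ∉ Y →
      Curv2.IsGloballyGenerated ((Scheme.Modules.pullback (comp η).subschemeι).obj E)) :
    letI : (vI Y hY).subscheme.Over (Spec (CommRingCat.of k)) :=
      ⟨(vI Y hY).subschemeι ≫ (X ↘ (Spec (CommRingCat.of k)))⟩
    Module.finrank k (Coh.HH X E 1) =
      Module.finrank k (Coh.HH (vI Y hY).subscheme ((Scheme.Modules.pullback (vI Y hY).subschemeι).obj E) 1) := by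
  haveI := CurveCohLib.isNoetherian_of_proper (k := k) (X := X)
  letI : (vI Y hY).subscheme.Over (Spec (CommRingCat.of k)) :=
    ⟨(vI Y hY).subschemeι ≫ (X ↘ (Spec (CommRingCat.of k)))⟩
  haveI : IsLocallyNoetherian (vI Y hY).subscheme :=
    LocallyOfFiniteType.isLocallyNoetherian (vI Y hY).subschemeι
  haveI : X.IsSeparated := ⟨by
    rw [← terminal.comp_from (X ↘ Spec (CommRingCat.of k))]
    infer_instance⟩
  obtain ⟨hb, -⟩ := grow k hdim hX hg hE _ Y hY hc hconn rfl hgg
  obtain ⟨p₂⟩ := nonempty_push_tensor (vI Y hY).subschemeι hE (Coh.structureModule (vI Y hY).subscheme)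
  let e : (DCoh.tensorBi.obj E).obj (ClSub.quotMod (vI Y hY)) ≅
      (Coh.push (vI Y hY).subschemeι).obj ((Scheme.Modules.pullback (vI Y hY).subschemeι).obj E) :=
    p₂ ≪≫ (Coh.push (vI Y hY).subschemeι).mapIso (SecTwist.unitorR _)
  obtain ⟨l₂⟩ := PnCoh.exists_linearEquiv_push k (vI Y hY).subschemeι (subOver_comp k (vI Y hY))
    (QCoh.isQCoh_of_isFinLocFree (CanonEval.isFinLocFree_pullback (vI Y hY).subschemeι hE)) 1
  exact (((CurveCohLib.hhEquiv (k := k) (SecTwist.unitorR E) 1).symm.trans
    (LinearEquiv.ofBijective _ hb)).trans ((CurveCohLib.hhEquiv (k := k) e 1).trans l₂.symm)).finrank_eq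

include hdim hX hg in
/-- A bundle generated on every component is generated. -/
theorem isGloballyGenerated_of_components {E : X.Modules} (hE : FlatMod.IsFinLocFree E)
    (hgg : ∀ η ∈ genericPoints (X : Type u),
      Curv2.IsGloballyGenerated ((Scheme.Modules.pullback (comp η).subschemeι).obj E)) :
    Curv2.IsGloballyGenerated E := by
  classical
  haveI := CurveCohLib.isNoetherian_of_proper (k := k) (X := X)
  haveI : X.IsSeparated := ⟨by
    rw [← terminal.comp_from (X ↘ Spec (CommRingCat.of k))]
    infer_instance⟩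
  have hEc := CurveDeg.isCoh_of_isFinLocFree hE
  haveI := CurveCohLib.finite_HH (k := k) hEc 0
  let m := Module.finrank k (Coh.HH X E 0)
  let b : Module.Basis (Fin m) k (Coh.HH X E 0) := Module.finBasis k _
  let s : Fin m → (Coh.structureModule X ⟶ E) := fun i => (CurveDual.homH0 (k := k) E).symm (b i)
  let φ : FlatMod.freeMod X m ⟶ E := Sigma.desc s
  let c := cokernel.π φ
  have hCc : Coh.IsCoh (cokernel φ) :=
    QCoh.isCoh_cokernel (QCoh.isQCoh_of_isFinLocFree (KFlatLib.isFinLocFree_freeMod m)) hEc φ
  have hall : ∀ t : Coh.structureModule X ⟶ E, t ≫ c = 0 := fun t => by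
    have ht : t = ∑ i, b.repr (CurveDual.homH0 (k := k) E t) i • s i :=
      (CurveDual.homH0 (k := k) E).injective (by simp [s, b.sum_repr])
    rw [ht, Preadditive.sum_comp]
    refine Finset.sum_eq_zero fun i _ => ?_
    rw [Linear.smul_comp, show s i = Sigma.ι (fun _ : Fin m => Coh.structureModule X) i ≫ φ from (Sigma.ι_desc s i).symm,
      Category.assoc, cokernel.condition, comp_zero, smul_zero]
  refine Euler.GG.isGloballyGenerated fun T g hg' => ?_
  suffices hC : IsZero (cokernel φ) by
    have hφg : φ ≫ g = 0 := Sigma.hom_ext (f := fun _ : Fin m => Coh.structureModule X) _ _ fun i => by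
      rw [comp_zero, ← Category.assoc, show Sigma.ι (fun _ : Fin m => Coh.structureModule X) i ≫ φ = s i from
        Sigma.ι_desc s i]
      exact hg' _
    rw [← cokernel.π_desc φ g hφg, hC.eq_of_tgt (cokernel.π φ) 0, zero_comp]
  refine KFlatLib.isZero_of_stalk _ fun x => ModuleCat.isZero_iff_subsingleton.2 (by_contra fun hx => ?_)
  obtain ⟨η, hη, hsp⟩ := NormAmpleX.exists_generic_specializes x
  let I := comp η
  letI := compOver (X := X) k η
  haveI : IsProper (I.subscheme ↘ Spec (CommRingCat.of k)) :=
    inferInstanceAs (IsProper (I.subschemeι ≫ (X ↘ Spec (CommRingCat.of k))))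
  have hG := gg_push k I (CanonEval.isFinLocFree_pullback I.subschemeι hE) (hgg η hη)
  obtain ⟨p₂⟩ := nonempty_push_tensor I.subschemeι hE (Coh.structureModule I.subscheme)
  let e : (DCoh.tensorBi.obj E).obj (ClSub.quotMod I) ≅
      (Coh.push I.subschemeι).obj ((Scheme.Modules.pullback I.subschemeι).obj E) :=
    p₂ ≪≫ (Coh.push I.subschemeι).mapIso (SecTwist.unitorR _)
  have hGQ : Euler.GG (ParSh.resD I E) := DefAmple18.gg_of_epi e.inv hG
  obtain ⟨-, hs⟩ := grow k hdim hX hg hE _ (closure ({η} : Set X)) isClosed_closure (isCompUnion_closure hη)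
    isIrreducible_singleton.closure.isConnected rfl fun ξ hξ _ => hgg ξ hξ
  have hnat : ParShLib.red I E ≫ ParSh.resDMap I c = c ≫ ParShLib.red I (cokernel φ) := ParShLib.red_naturality I c
  have h0 : ParSh.resDMap I c = 0 := hGQ _ _ fun t => by
    obtain ⟨y, hy⟩ := hs (CurveDual.homH0 (k := k) (ParSh.resD I E) t)
    let y' := Canon.HHlin k (SecTwist.unitorR E).hom 0 y
    have ht : (CurveDual.homH0 (k := k) E).symm y' ≫ ParShLib.red I E = t := by
      refine (CurveDual.homH0 (k := k) (ParSh.resD I E)).injective ?_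
      rw [← hy]
      show Canon.HHlin k _ 0 CurveDual.oneH = _
      rw [CurveDual.HHlin_apply, Functor.map_comp, Sheaf.H.map_comp_apply]
      have h1 : Sheaf.H.map ((QCoh.toAbFunctor X).map ((CurveDual.homH0 (k := k) E).symm y')) 0 CurveDual.oneH = y' :=
        (CurveDual.HHlin_apply (k := k) _ _ _).symm.trans ((CurveDual.homH0 (k := k) E).apply_symm_apply y')
      rw [h1]
      show Sheaf.H.map _ 0 (Canon.HHlin k (SecTwist.unitorR E).hom 0 y) = _
      rw [CurveDual.HHlin_apply]
      refine (PnCoh.Finite.map_map (Y := X.toPresheafedSpace.carrier)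
        ((QCoh.toAbFunctor X).map_comp (SecTwist.unitorR E).hom (ParShLib.red I E)).symm 0 y).trans ?_
      rw [show (SecTwist.unitorR E).hom ≫ ParShLib.red I E =
        (DCoh.tensorBi.obj E).map (ClSub.toSubscheme I) by
          rw [ParShLib.red, Iso.hom_inv_id_assoc, ParShLib.tensorMap_id_left]]
      rfl
    rw [← ht, Category.assoc, hnat, ← Category.assoc, hall, zero_comp]
  obtain ⟨_, _, he⟩ := ParShLib.tensorLeft_exact I (cokernel φ)
  haveI := he
  haveI : Epi (ParShLib.red I (cokernel φ)) := by
    rw [ParShLib.red, ParShLib.tensorMap_id_left]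
    infer_instance
  have hz : IsZero (ParSh.resD I (cokernel φ)) := by
    refine (IsZero.iff_id_eq_zero _).2 ?_
    rw [← cancel_epi (ParShLib.red I (cokernel φ)), ← cancel_epi c, comp_zero, comp_zero, Category.comp_id,
      ← hnat, h0, comp_zero]
  have hQc : Coh.IsCoh (ClSub.quotMod I) := ParShLib.isCoh_quotMod _
  have hmem : x ∈ CohB1.support ((DCoh.tensorBi.obj (cokernel φ)).obj (ClSub.quotMod I)) := by
    rw [S2286.support_tensor _ _ hCc.1 hCc.2 hQc.1 hQc.2]
    refine ⟨hx, CurveGor.not_subsingleton_stalk_quot I ?_⟩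
    rw [Scheme.IdealSheafData.coe_support_vanishingIdeal]
    exact specializes_iff_mem_closure.1 hsp
  exact hmem (ModuleCat.subsingleton_of_isZero ((DerSch.stalkFunctor X x).map_isZero hz))

end Groth.Agent.CurveTree
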