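import Groth.Agent.CurveTree.Ideal
import Groth.Agent.Lib.DivisorExt
import Groth.Agent.Lib.Euler
import Groth.Agent.ParShLib.Along
import Groth.Agent.CanonEval.Push

/-!
# First cohomology through a decomposition of a curve
-/

set_option autoImplicit false
set_option linter.style.haveILetI false
set_option linter.unusedSectionVars false
set_option backward.isDefEq.respectTransparency false
set_option backward.isDefEq.respectTransparency.types false
set_option maxHeartbeats 1000000
set_option synthInstance.maxHeartbeats 200000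

universe u

open CategoryTheory CategoryTheory.Limits AlgebraicGeometry TopologicalSpace Opposite

noncomputable section

namespace Groth.Agent.CurveTree

open Groth.Agent CurveGor
open Groth.Agent.PnCoh.Finite (mapLin deltaLin)

attribute [local instance] HasDerivedCategory.standard

variable {X : Scheme.{u}}

/-- The projection formula for a locally free module. -/
theorem nonempty_push_tensor {W : Scheme.{u}} (f : W ⟶ X) {F : X.Modules} (hF : FlatMod.IsFinLocFree F)
    (G : W.Modules) :
    Nonempty (CohB1.tensorMod F ((Coh.push f).obj G) ≅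
      (Coh.push f).obj (CohB1.tensorMod ((Scheme.Modules.pullback f).obj F) G)) := by
  haveI : HasInjectiveResolutions W.Modules := inferInstance
  haveI : PreservesFiniteLimits (Scheme.Modules.pushforward f) := QCoh.preservesFiniteLimits_push f
  obtain ⟨e⟩ := KFlatLib.nonempty_rpush_tensor_finLocFree f G F hF 0
  let a : ∀ M : W.Modules, (Coh.Rpush f 0).obj M ≅ (Coh.push f).obj M := fun M =>
    (Scheme.Modules.pushforward f).rightDerivedZeroIsoSelf.app M
  obtain ⟨e₁⟩ : Nonempty (CohB1.tensorMod F ((Coh.push f).obj G) ≅ CohB1.tensorMod F ((Coh.Rpush f 0).obj G)) :=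
    H23.PicMul.cl_eq_iff.1 (by rw [H23.PicMul.cl_tensor, H23.PicMul.cl_tensor, H23.PicMul.cl_eq_iff.2 ⟨a G⟩])
  exact ⟨e₁ ≪≫ e ≪≫ a _⟩

variable (k : Type u) [Field k] [X.Over (Spec (CommRingCat.of k))] [IsProper (X ↘ Spec (CommRingCat.of k))]

/-- Cohomology of a locally free module through the ideal of one of two halves. -/
theorem finrank_h1 (hdim : topologicalKrullDim X ≤ 1) {F : X.Modules} (hF : FlatMod.IsFinLocFree F)
    (I₁ I₂ : X.IdealSheafData) (h : I₁ ⊓ I₂ = ⊥) (P : I₁.subscheme.IdealSheafData)
    (hP : (P.subschemeι ≫ I₁.subschemeι).ker = I₁ ⊔ I₂)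
    (hvan : Subsingleton (Coh.HH I₁.subscheme
      (CohB1.tensorMod ((Scheme.Modules.pullback I₁.subschemeι).obj F) (ClSub.idealMod P)) 1)) :
    letI : I₂.subscheme.Over (Spec (CommRingCat.of k)) := ⟨I₂.subschemeι ≫ (X ↘ (Spec (CommRingCat.of k)))⟩
    Module.finrank k (Coh.HH X F 1) =
      Module.finrank k (Coh.HH I₂.subscheme ((Scheme.Modules.pullback I₂.subschemeι).obj F) 1) := by
  haveI := CurveCohLib.isNoetherian_of_proper (k := k) (X := X)
  letI : I₁.subscheme.Over (Spec (CommRingCat.of k)) := ⟨I₁.subschemeι ≫ (X ↘ (Spec (CommRingCat.of k)))⟩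
  letI : I₂.subscheme.Over (Spec (CommRingCat.of k)) := ⟨I₂.subschemeι ≫ (X ↘ (Spec (CommRingCat.of k)))⟩
  haveI : IsLocallyNoetherian I₁.subscheme := LocallyOfFiniteType.isLocallyNoetherian I₁.subschemeι
  haveI : IsLocallyNoetherian I₂.subscheme := LocallyOfFiniteType.isLocallyNoetherian I₂.subschemeι
  haveI : X.IsSeparated := ⟨by
    rw [← terminal.comp_from (X ↘ Spec (CommRingCat.of k))]
    infer_instance⟩
  let T := DCoh.tensorBi.obj F
  have hS := CurveTensor.shortExact_tensor hF _ _ _ (DivisorExt.ideal_shortExact I₂)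
  obtain ⟨u⟩ := nonempty_ideal_iso I₁ I₂ h P hP
  obtain ⟨p₁⟩ := nonempty_push_tensor I₁.subschemeι hF (ClSub.idealMod P)
  obtain ⟨p₂⟩ := nonempty_push_tensor I₂.subschemeι hF (Coh.structureModule I₂.subscheme)
  have hF₁ := CurveDeg.isCoh_of_isFinLocFree (CanonEval.isFinLocFree_pullback I₁.subschemeι hF)
  obtain ⟨l₁⟩ := PnCoh.exists_linearEquiv_push k I₁.subschemeι rfl
    (CurveTensor.isCoh_tensor (CanonEval.isFinLocFree_pullback I₁.subschemeι hF)
      (NormalLib.isCoh_idealMod P)).1 1
  haveI hA : Subsingleton (Coh.HH X (T.obj (ClSub.idealMod I₂)) 1) :=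
    @Equiv.subsingleton _ _ ((CurveCohLib.hhEquiv (k := k) (T.mapIso u ≪≫ p₁) 1).trans l₁.symm).toEquiv hvan
  have hA2 : Subsingleton (Coh.HH X (T.obj (ClSub.idealMod I₂)) (1 + 1)) :=
    Snapper.subsingleton_HH_of_dim_le (d := 1) (by simpa using hdim)
      (CurveTensor.isCoh_tensor hF (NormalLib.isCoh_idealMod I₂)).1 one_lt_two
  have hinj : Function.Injective (mapLin k (T.map (ClSub.toSubscheme I₂)) 1) := by
    rw [← LinearMap.ker_eq_bot]
    refine (CurveCohLib.ker_mapLin_g k hS 1).trans ?_
    rw [LinearMap.range_eq_bot]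
    exact LinearMap.ext fun x => by rw [Subsingleton.elim x 0, map_zero, LinearMap.zero_apply]
  have hsur : Function.Surjective (mapLin k (T.map (ClSub.toSubscheme I₂)) 1) := by
    rw [← LinearMap.range_eq_top]
    refine (Euler.range_mapLin_g k hS 1).trans ?_
    rw [LinearMap.ker_eq_top]
    haveI := hA2
    exact LinearMap.ext fun x => Subsingleton.elim _ _
  let q : T.obj (ClSub.quotMod I₂) ≅
      (Coh.push I₂.subschemeι).obj ((Scheme.Modules.pullback I₂.subschemeι).obj F) :=
    p₂ ≪≫ (Coh.push I₂.subschemeι).mapIso (SecTwist.unitorR _)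
  obtain ⟨l₂⟩ := PnCoh.exists_linearEquiv_push k I₂.subschemeι rfl
    (QCoh.isQCoh_of_isFinLocFree (CanonEval.isFinLocFree_pullback I₂.subschemeι hF)) 1
  exact (((CurveCohLib.hhEquiv (k := k) (SecTwist.unitorR F) 1).symm.trans
    (LinearEquiv.ofBijective _ ⟨hinj, hsur⟩)).trans
      ((CurveCohLib.hhEquiv (k := k) q 1).trans l₂.symm)).finrank_eq

include k in
/-- A one-dimensional integral closed subscheme is the closure of a generic point. -/
theorem exists_generic_of_component (hdim : topologicalKrullDim X ≤ 1) (Z : X.IdealSheafData)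
    (hint : IsIntegral Z.subscheme) (hZ : topologicalKrullDim (Z.support : Set X) = 1) :
    ∃ η ∈ genericPoints (X : Type u), (Z.support : Set X) = closure {η} := by
  haveI := CurveCohLib.isNoetherian_of_proper (k := k) (X := X)
  have hr : Set.range Z.subschemeι = (Z.support : Set X) := Z.range_subschemeι
  let e := Z.subschemeι.isClosedEmbedding.isEmbedding.toHomeomorph
  have hd : topologicalKrullDim Z.subscheme = 1 := by
    rw [IsHomeomorph.topologicalKrullDim_eq _ e.isHomeomorph, hr]
    exact hZ
  haveI : IsNoetherian Z.subscheme :=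
    { __ := LocallyOfFiniteType.isLocallyNoetherian Z.subschemeι
      __ := QuasiCompact.compactSpace_of_compactSpace Z.subschemeι }
  refine ⟨Z.subschemeι (genericPoint Z.subscheme), ?_, ?_⟩
  · by_contra hg
    refine CurveDual.notMem_gen hd ?_ (x := genericPoint Z.subscheme) ?_
    · have hcl := TFOneX.isClosed_singleton_of_notMem hdim hg
      have : ({genericPoint Z.subscheme} : Set Z.subscheme) = Z.subschemeι ⁻¹' {Z.subschemeι (genericPoint Z.subscheme)} :=
        Set.ext fun z => ⟨fun h => congrArg _ h, fun h => Z.subschemeι.isClosedEmbedding.injective h⟩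
      rw [this]
      exact hcl.preimage Z.subschemeι.continuous
    · show closure ({genericPoint Z.subscheme} : Set Z.subscheme) ∈ irreducibleComponents _
      rw [genericPoint_closure, irreducibleComponents_eq_singleton]
      exact Set.mem_singleton _
  · rw [← Set.image_singleton, Z.subschemeι.isClosedEmbedding.closure_image_eq, genericPoint_closure,
      Set.image_univ, hr]

end Groth.Agent.CurveTree
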