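import Groth.Agent.R1Push.Main
import Groth.Agent.Lib.EulerOneDeg
import Groth.Agent.CurveGor.Nodal
import Groth.Agent.CurveGor.Bridge
import Groth.Agent.GeomField.GlobalFunctions
import Groth.Agent.Snapper.DimVanish
import Groth.Agent.CurveTree.H1

/-!
# Total transforms of rational trees
-/

set_option autoImplicit false
set_option linter.style.haveILetI false
set_option linter.unusedSectionVars false
set_option backward.isDefEq.respectTransparency false
set_option backward.isDefEq.respectTransparency.types false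
set_option maxHeartbeats 1000000
set_option synthInstance.maxHeartbeats 200000

universe u

open CategoryTheory CategoryTheory.Limits AlgebraicGeometry TopologicalSpace Opposite

noncomputable section

namespace Groth.Agent.CurveTree

open Groth.Agent
open Groth.Agent.PnCoh.Finite (mapLin deltaLin)

attribute [local instance] HasDerivedCategory.standard

variable (k : Type u) [Field k] [IsAlgClosed k] {C C' : Scheme.{u}} [C.Over (Spec (CommRingCat.of k))]
  [C'.Over (Spec (CommRingCat.of k))] [IsProper (C ↘ Spec (CommRingCat.of k))]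
  [IsProper (C' ↘ Spec (CommRingCat.of k))]

/-- Global functions are constants. -/
theorem surjective_const {X : Scheme.{u}} [X.Over (Spec (CommRingCat.of k))]
    [IsProper (X ↘ Spec (CommRingCat.of k))] [ConnectedSpace X] [AlgebraicGeometry.IsReduced X] (v : Γ(X, ⊤)) :
    ∃ c : k, (X ↘ Spec (CommRingCat.of k)).appTop.hom ((Scheme.ΓSpecIso (CommRingCat.of k)).inv.hom c) = v := by
  letI := GeomField.globalAlgebra k X
  have h1 : Module.finrank k Γ(X, ⊤) = 1 := by
    rw [← GeomField.finrank_HH_zero]
    exact CurveGor.finrank_h0_structure (k := k)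
  haveI : Nontrivial Γ(X, ⊤) := Module.nontrivial_of_finrank_eq_succ h1
  obtain ⟨c, hc⟩ := (finrank_eq_one_iff_of_nonzero' (1 : Γ(X, ⊤)) one_ne_zero).1 h1 v
  exact ⟨c, by rw [← hc, Algebra.smul_def, mul_one]; rfl⟩

variable (π : C' ⟶ C) (hπ : π ≫ (C ↘ Spec (CommRingCat.of k)) = C' ↘ Spec (CommRingCat.of k))
  [ConnectedSpace C] [AlgebraicGeometry.IsReduced C] [ConnectedSpace C'] [AlgebraicGeometry.IsReduced C']
  (hdim : topologicalKrullDim C = 1)
  (hg : Subsingleton (Coh.HH C (Coh.structureModule C) 1))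
  {p : C} (hpc : IsClosed ({p} : Set C))
  (hiso : IsIso (π ∣_ (⟨({p} : Set C)ᶜ, hpc.isOpen_compl⟩ : C.Opens)))

include hπ hdim hg hpc hiso in
/-- A total transform does not change functions. -/
theorem isIso_unit : IsIso (ClSub.unitToPush π) := by
  haveI := CurveCohLib.isNoetherian_of_proper (k := k) (X := C)
  let U : C.Opens := ⟨({p} : Set C)ᶜ, hpc.isOpen_compl⟩
  haveI : IsIso (π ∣_ U) := hiso
  have hgen := CurveGor.notClosed_of_generic (k := k) hdim
  let u := ClSub.unitToPush π
  have hbij : ∀ W : C.Opens, W ≤ U → Function.Bijective (u.app W) := fun W hW => by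
    haveI : IsIso (π ∣_ W) := PointBlow.isIso_restrict_mono π hW
    haveI : IsIso (π.app W) := by
      have e := morphismRestrict_appTop π W
      haveI : IsIso ((π ∣_ W).appTop) := inferInstance
      rw [e] at this
      haveI := this
      have := IsIso.of_isIso_comp_right (π.app (W.ι ''ᵁ ⊤)) (C'.presheaf.map (eqToHom (image_morphismRestrict_preimage π W ⊤)).op)
      rwa [Scheme.Opens.ι_image_top] at this
    exact ConcreteCategory.bijective_of_isIso (π.app W)
  haveI : Mono u := by
    refine QCoh.mono_of_app_injective u fun V => (injective_iff_map_eq_zero _).2 fun r hr => ?_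
    refine NormAmpleX.eq_zero_of_germ_generic _ fun η hη hηV => ?_
    have hηU : η ∈ U := fun h => hgen η hη ((h : η = p) ▸ hpc)
    let W := V ⊓ U
    have h0 : u.app W ((Coh.structureModule C).presheaf.map (homOfLE (inf_le_left : W ≤ V)).op r) = 0 := by
      exact (QCoh.map_app_comm u (homOfLE (inf_le_left : W ≤ V)) r).trans ((congrArg _ hr).trans (map_zero _))
    have h1 : C.presheaf.map (homOfLE (inf_le_left : W ≤ V)).op r = 0 :=
      (hbij W inf_le_right).1 (h0.trans (map_zero _).symm)
    rw [← C.presheaf.germ_res_apply (homOfLE (inf_le_left : W ≤ V)) η ⟨hηV, hηU⟩ r, h1, map_zero]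
  have hS : (ShortComplex.mk u (cokernel.π u) (cokernel.condition u)).ShortExact :=
    { exact := ShortComplex.exact_of_g_is_cokernel _ (cokernelIsCokernel u) }
  haveI : Subsingleton Γ(cokernel u, ⊤) := subsingleton_of_forall_eq 0 fun z => by
    obtain ⟨v, rfl⟩ := QCoh.app_top_surjective_of_HH_one hS hg z
    obtain ⟨c, hc⟩ := surjective_const k (X := C') (show Γ(C', ⊤) from v)
    have hv : u.app ⊤ ((C ↘ Spec (CommRingCat.of k)).appTop.hom ((Scheme.ΓSpecIso (CommRingCat.of k)).inv.hom c)) = v := by
      refine Eq.trans ?_ hc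
      rw [← hπ, Scheme.Hom.comp_appTop, CommRingCat.hom_comp, RingHom.comp_apply]
      rfl
    rw [← hv]
    exact QCoh.app_g_f (S := ShortComplex.mk u (cokernel.π u) (cokernel.condition u)) ⊤ _
  have hQ : IsZero (cokernel u) := by
    refine KFlatLib.isZero_of_stalk _ fun x => ModuleCat.isZero_iff_subsingleton.2 ?_
    refine R1Push.subsingleton_stalk_of_sections (cokernel u) {p} (Set.finite_singleton p)
      (fun s hs => (hs : s = p) ▸ hpc) (fun y hy => subsingleton_of_forall_eq 0 fun m => ?_) x
    obtain ⟨V, hyV, s, rfl⟩ := TopCat.Presheaf.exists_germ_eq (C := AddCommGrpCat.{u}) (cokernel u).presheaf (x := y) m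
    obtain ⟨D, hD, hyD, hDle⟩ := exists_isAffineOpen_mem_and_subset (x := y) (U := V ⊓ U) ⟨hyV, hy⟩
    rw [← (cokernel u).presheaf.germ_res_apply (homOfLE (fun z hz => (hDle hz).1 : D ≤ V)) y hyD s]
    obtain ⟨W, hyW, i, t, ht⟩ : ∃ (W : C.Opens) (_ : y ∈ W) (i : W ⟶ D) (t : Γ((Scheme.Modules.pushforward π).obj (Coh.structureModule C'), W)),
        (cokernel.π u).app W t = (cokernel u).presheaf.map i.op
          ((cokernel u).presheaf.map (homOfLE (fun z hz => (hDle hz).1 : D ≤ V)).op s) := by
      obtain ⟨W, i, hyW, t, ht⟩ := QCoh.exists_local_preimage (cokernel.π u) (U := D)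
        ((cokernel u).presheaf.map (homOfLE (fun z hz => (hDle hz).1 : D ≤ V)).op s) hyD
      exact ⟨W, hyW, homOfLE i, t, ht⟩
    obtain ⟨r, hr⟩ := (hbij W (fun z hz => (hDle (i.le hz)).2)).2 t
    rw [← (cokernel u).presheaf.germ_res_apply i y hyW, ← ht, ← hr,
      QCoh.app_g_f (S := ShortComplex.mk u (cokernel.π u) (cokernel.condition u)) W r, map_zero]
  haveI : Epi u := Preadditive.epi_of_cokernel_zero (hQ.eq_of_tgt _ _)
  exact isIso_of_mono_of_epi u

variable (hdim' : topologicalKrullDim C' = 1) (hg' : Subsingleton (Coh.HH C' (Coh.structureModule C') 1))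

include hπ hdim hg hpc hiso hdim' hg' in
/-- A total transform has no higher direct images of functions. -/
theorem isZero_Rpush [HasInjectiveResolutions C'.Modules] (n : ℕ) :
    IsZero ((Coh.Rpush π (n + 1)).obj (Coh.structureModule C')) := by
  haveI := CurveCohLib.isNoetherian_of_proper (k := k) (X := C)
  haveI := CurveCohLib.isNoetherian_of_proper (k := k) (X := C')
  haveI : IsProper (π ≫ (C ↘ Spec (CommRingCat.of k))) := by rw [hπ]; infer_instance
  haveI : IsProper π := IsProper.of_comp π (C ↘ Spec (CommRingCat.of k))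
  haveI : C.IsSeparated := ⟨by
    rw [← terminal.comp_from (C ↘ Spec (CommRingCat.of k))]
    infer_instance⟩
  haveI : C'.IsSeparated := ⟨by
    rw [← terminal.comp_from (C' ↘ Spec (CommRingCat.of k))]
    infer_instance⟩
  let U : C.Opens := ⟨({p} : Set C)ᶜ, hpc.isOpen_compl⟩
  haveI : IsIso (π ∣_ U) := hiso
  let R := (Coh.Rpush π (n + 1)).obj (Coh.structureModule C')
  have hoff : ∀ y ∉ ({p} : Set C), Subsingleton (R.presheaf.stalk y) := fun y hy =>
    R1Push.subsingleton_stalk_of_isIso π U (x := y) hy n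
  refine KFlatLib.isZero_of_stalk _ fun x => ModuleCat.isZero_iff_subsingleton.2 ?_
  rcases n with _ | n
  · haveI := isIso_unit k π hπ hdim hg hpc hiso
    have hO : ∀ V : C.Opens, Function.Bijective (π.app V) := fun V =>
      ConcreteCategory.bijective_of_isIso ((ClSub.unitToPush π).app V)
    have h2 : Subsingleton (Coh.HH C (Coh.structureModule C) 2) :=
      Snapper.subsingleton_HH_of_dim_le (d := 1) hdim.le QCoh.isQCoh_structureModule one_lt_two
    have e := R1Push.length_h1 π hπ hO h2
    haveI := hg'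
    rw [Module.length_eq_zero (R := k) (M := Coh.HH C' (Coh.structureModule C') 1)] at e
    have e0 := (add_eq_zero.1 e.symm).2
    haveI : Subsingleton (Coh.HH C R 0) := Module.length_eq_zero_iff.1 e0
    haveI : Subsingleton Γ(R, ⊤) := (Sheaf.H.equiv₀ (Coh.toAb R) isTerminalTop).symm.subsingleton
    exact R1Push.subsingleton_stalk_of_sections R {p} (Set.finite_singleton p)
      (fun s hs => (hs : s = p) ▸ hpc) hoff x
  · refine subsingleton_of_forall_eq 0 fun m => ?_
    obtain ⟨V, hxV, v, rfl⟩ := TopCat.Presheaf.exists_germ_eq (C := AddCommGrpCat.{u}) R.presheaf (x := x) m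
    obtain ⟨D, hD, hxD, hDle⟩ := exists_isAffineOpen_mem_and_subset (x := x) (U := V) hxV
    haveI : IsNoetherian (π ⁻¹ᵁ D : Scheme.{u}) :=
      { __ := LocallyOfFiniteType.isLocallyNoetherian (π ⁻¹ᵁ D).ι
        __ := isCompact_iff_compactSpace.1 (NoetherianSpace.isCompact (π ⁻¹ᵁ D : Set C')) }
    haveI : (π ⁻¹ᵁ D : Scheme.{u}).IsSeparated := ⟨by
      rw [← terminal.comp_from (π ⁻¹ᵁ D).ι]
      infer_instance⟩
    haveI := Snapper.subsingleton_HH_of_dim_le (d := 1)
      (((π ⁻¹ᵁ D).ι.isOpenEmbedding.isInducing.topologicalKrullDim_le).trans (by simpa using hdim'.le))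
      (QCoh.isQCoh_restrict (π ⁻¹ᵁ D).ι (QCoh.isQCoh_structureModule (X := C'))) (i := n + 1 + 1) (by omega)
    have hle : D ≤ V := hDle
    obtain ⟨e⟩ := QCoh.nonempty_sections_HH (f := π) (QCoh.isQCoh_structureModule (X := C')) hD (n + 1 + 1)
    rw [← R.presheaf.germ_res_apply (homOfLE hle) x hxD v]
    haveI : Subsingleton Γ(R, D) := e.toEquiv.subsingleton
    rw [Subsingleton.elim (α := Γ(R, D)) (R.presheaf.map (homOfLE hle).op v) 0]
    exact map_zero _

include hπ hdim hg hpc hiso hdim' hg' in
/-- Cohomology of bundles is unchanged by a total transform. -/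
theorem finrank_transform {F : C.Modules} (hF : FlatMod.IsFinLocFree F) (j : ℕ) :
    Module.finrank k (Coh.HH C F j) =
      Module.finrank k (Coh.HH C' ((Scheme.Modules.pullback π).obj F) j) := by
  haveI : HasInjectiveResolutions C'.Modules := inferInstance
  haveI : PreservesFiniteLimits (Scheme.Modules.pushforward π) := QCoh.preservesFiniteLimits_push π
  haveI := isIso_unit k π hπ hdim hg hpc hiso
  let G := (Scheme.Modules.pullback π).obj F
  have hZ : ∀ n, n ≠ 0 → IsZero ((Coh.Rpush π n).obj G) := fun n hn => by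
    obtain ⟨m, rfl⟩ := Nat.exists_eq_succ_of_ne_zero hn
    obtain ⟨e⟩ := KFlatLib.nonempty_rpush_tensor_finLocFree π (Coh.structureModule C') F hF (m + 1)
    have h0 : IsZero (CohB1.tensorMod F ((Coh.Rpush π (m + 1)).obj (Coh.structureModule C'))) := by
      haveI : PreservesColimitsOfSize.{u, u} (DCoh.tensorBi.obj F) := ⟨fun {K} _ => inferInstance⟩
      haveI : PreservesColimitsOfSize.{0, 0} (DCoh.tensorBi.obj F) := preservesColimitsOfSize_shrink.{0, u, 0, u} _
      haveI : PreservesBinaryBiproducts (DCoh.tensorBi.obj F) :=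
        preservesBinaryBiproducts_of_preservesBinaryCoproducts _
      haveI : (DCoh.tensorBi.obj F).Additive := Functor.additive_of_preservesBinaryBiproducts _
      exact (DCoh.tensorBi.obj F).map_isZero (isZero_Rpush k π hπ hdim hg hpc hiso hdim' hg' m)
    exact (h0.of_iso e.symm).of_iso ((Coh.Rpush π (m + 1)).mapIso (SecTwist.unitorR G).symm)
  have h := EulerOneDeg.finrank_eq k π hπ (M := G) 0 hZ j
  rw [Nat.zero_add] at h
  rw [h]
  obtain ⟨e₁⟩ := nonempty_push_tensor π hF (Coh.structureModule C')
  let e : F ≅ (Coh.Rpush π 0).obj G :=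
    (SecTwist.unitorR F).symm ≪≫ (DCoh.tensorBi.obj F).mapIso (asIso (ClSub.unitToPush π)) ≪≫ e₁ ≪≫
      (Coh.push π).mapIso (SecTwist.unitorR G) ≪≫ ((Scheme.Modules.pushforward π).rightDerivedZeroIsoSelf.app G).symm
  exact (CurveCohLib.hhEquiv (k := k) e j).finrank_eq

end Groth.Agent.CurveTree
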