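import Groth.Agent.CurveTree.Comps
import Groth.Agent.CurveTree.H1
import Groth.Agent.CurveGor.SubNodal
import Groth.Agent.CurveGor.GenusFormula
import Groth.Agent.CurveTree.Transform

/-!
# Subcurves of rational trees
-/

set_option autoImplicit false
set_option linter.style.haveILetI false
set_option linter.unusedSectionVars false
set_option backward.isDefEq.respectTransparency false
set_option backward.isDefEq.respectTransparency.types false
set_option maxHeartbeats 1000000
set_option synthInstance.maxHeartbeats 200000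

universe u

open CategoryTheory CategoryTheory.Limits AlgebraicGeometry TopologicalSpace Opposite

noncomputable section

namespace Groth.Agent.CurveTree

open Groth.Agent CurveGor

variable {X : Scheme.{u}}

theorem hker_iff (I : X.IdealSheafData) (U : X.affineOpens) (r : Γ(X, U.1)) :
    (ClSub.toSubscheme I).app U.1 r = 0 ↔ r ∈ I.ideal U := by
  rw [← I.ker_subschemeι_app U, RingHom.mem_ker]; rfl

/-- The kernel of `O/I' → O/I₂` when `I' = I₁ ∩ I₂` is the ideal of the meeting on the first half. -/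
theorem nonempty_kernel_iso [IsNoetherian X] [AlgebraicGeometry.IsReduced X] (I' I₁ I₂ : X.IdealSheafData) (h : I₁ ⊓ I₂ = I')
    (q : ClSub.quotMod I' ⟶ ClSub.quotMod I₂) (hq : ClSub.toSubscheme I' ≫ q = ClSub.toSubscheme I₂)
    (P : I₁.subscheme.IdealSheafData) (hP : (P.subschemeι ≫ I₁.subschemeι).ker = I₁ ⊔ I₂) :
    Nonempty (kernel q ≅ (Coh.push I₁.subschemeι).obj (ClSub.idealMod P)) := by
  let ι₁ := I₁.subschemeι
  let g := (Coh.push ι₁).map (ClSub.toSubscheme P)
  obtain ⟨q₁, hq₁⟩ := exists_quot (X := X) (I := I') (J := I₁) (h ▸ inf_le_left)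
  have hcomp : ∀ (U : X.affineOpens) (r : Γ(X, U.1)),
      g.app U.1 ((ClSub.toSubscheme I₁).app U.1 r) = 0 ↔ r ∈ (I₁ ⊔ I₂).ideal U := fun U r => by
    rw [← hP, Scheme.Hom.ker_apply, RingHom.mem_ker]
    rfl
  have hq' : ∀ (U : X.Opens) (r : Γ(X, U)), q.app U ((ClSub.toSubscheme I').app U r) =
      (ClSub.toSubscheme I₂).app U r := fun U r => congr(($hq).app U r)
  have hq₁' : ∀ (U : X.Opens) (r : Γ(X, U)), q₁.app U ((ClSub.toSubscheme I').app U r) =
      (ClSub.toSubscheme I₁).app U r := fun U r => congr(($hq₁).app U r)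
  have hsurj : ∀ (U : X.affineOpens) (x : Γ(ClSub.quotMod I', U.1)),
      ∃ r : Γ(X, U.1), (ClSub.toSubscheme I').app U.1 r = x := fun U x => I'.subschemeι_app_surjective U x
  have hw : (kernel.ι q ≫ q₁) ≫ g = 0 := by
    refine QCoh.hom_eq_zero_of_affine _ fun U hU t => ?_
    obtain ⟨r, hr⟩ := hsurj ⟨U, hU⟩ ((kernel.ι q).app U t)
    have h0 : (ClSub.toSubscheme I₂).app U r = 0 := by
      rw [← hq', hr]
      exact congr(($(kernel.condition q)).app U t)
    show g.app U (q₁.app U ((kernel.ι q).app U t)) = 0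
    rw [← hr, hq₁']
    refine (hcomp ⟨U, hU⟩ r).2 ?_
    rw [Scheme.IdealSheafData.ideal_sup]
    exact Submodule.mem_sup_right ((hker_iff I₂ ⟨U, hU⟩ r).1 h0)
  let w := kernel.lift g _ hw
  have hwι : ∀ (U : X.Opens) (t : Γ(kernel q, U)), (kernel.ι g).app U (w.app U t) =
      q₁.app U ((kernel.ι q).app U t) := fun U t => congr(($(kernel.lift_ι g _ hw)).app U t)
  haveI : IsIso w := by
    refine QCoh.isIso_of_isBasis w (B := {W | IsAffineOpen W}) X.isBasis_affineOpens fun U hU => ?_
    replace hU : IsAffineOpen U := hU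
    constructor
    · refine (injective_iff_map_eq_zero _).2 fun t ht => QCoh.app_injective (kernel.ι q) U ?_
      rw [map_zero]
      obtain ⟨r, hr⟩ := hsurj ⟨U, hU⟩ ((kernel.ι q).app U t)
      have h1 : r ∈ I₁.ideal ⟨U, hU⟩ := (hker_iff I₁ ⟨U, hU⟩ r).1 (by
        show (ClSub.toSubscheme I₁).app U r = 0
        rw [← hq₁', hr, ← hwι, ht, map_zero])
      have h2 : r ∈ I₂.ideal ⟨U, hU⟩ := (hker_iff I₂ ⟨U, hU⟩ r).1 (by
        show (ClSub.toSubscheme I₂).app U r = 0
        rw [← hq', hr]
        exact congr(($(kernel.condition q)).app U t))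
      have h3 : r ∈ I'.ideal ⟨U, hU⟩ := by
        rw [← h, Scheme.IdealSheafData.ideal_inf]; exact ⟨h1, h2⟩
      exact hr.symm.trans ((hker_iff I' ⟨U, hU⟩ r).2 h3)
    · intro y
      obtain ⟨r, hr⟩ := I₁.subschemeι_app_surjective ⟨U, hU⟩ ((kernel.ι g).app U y)
      have hg : g.app U ((ClSub.toSubscheme I₁).app U r) = 0 := by
        refine (congrArg (g.app U) hr).trans ?_
        exact congr(($(kernel.condition g)).app U y)
      have hm := (hcomp ⟨U, hU⟩ r).1 hg
      rw [Scheme.IdealSheafData.ideal_sup] at hm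
      obtain ⟨r₁, h₁, r₂, h₂, h12⟩ := Submodule.mem_sup.1 hm
      obtain ⟨t, ht⟩ := exists_kernel_app q U ((ClSub.toSubscheme I').app U r₂)
        ((hq' U r₂).trans ((hker_iff I₂ ⟨U, hU⟩ r₂).2 h₂))
      refine ⟨t, QCoh.app_injective (kernel.ι g) U ?_⟩
      rw [hwι, ht, hq₁']
      refine Eq.trans ?_ hr
      rw [← h12]
      refine Eq.trans ?_ (map_add ((ClSub.toSubscheme I₁).app U).hom r₁ r₂).symm
      refine (zero_add _).symm.trans (congrArg (· + _) ?_)
      exact ((hker_iff I₁ ⟨U, hU⟩ r₁).2 h₁).symm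
  haveI : PreservesFiniteLimits (Coh.push ι₁) := QCoh.preservesFiniteLimits_push ι₁
  haveI : PreservesBinaryBiproducts (Coh.push ι₁) := preservesBinaryBiproducts_of_preservesBinaryProducts _
  haveI : (Coh.push ι₁).Additive := Functor.additive_of_preservesBinaryBiproducts _
  exact ⟨asIso w ≪≫ (PreservesKernel.iso (Coh.push ι₁) (ClSub.toSubscheme P)).symm⟩

variable (k : Type u) [Field k] [IsAlgClosed k] [X.Over (Spec (CommRingCat.of k))]
  [IsProper (X ↘ Spec (CommRingCat.of k))] [ConnectedSpace X]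
  (hdim : topologicalKrullDim X = 1) (hX : Curv2.AtWorstNodal k X)

include hdim hX in
/-- A component meets a union of other components in reduced points. -/
theorem sup_eq_vI_inter {η : X} (hη : η ∈ genericPoints (X : Type u)) {Y : Set X} (hY : IsClosed Y)
    (hc : IsCompUnion Y) (hηY : η ∉ Y) :
    vI (closure ({η} : Set X)) isClosed_closure ⊔ vI Y hY =
      vI (closure ({η} : Set X) ∩ Y) (isClosed_closure.inter hY) := by
  haveI := CurveCohLib.isNoetherian_of_proper (k := k) (X := X)
  haveI := isReduced_of_nodal (k := k) hdim hX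
  refine le_antisymm (sup_le ?_ ?_) ?_
  · exact Scheme.IdealSheafData.vanishingIdeal_antimono fun _ h => h.1
  · exact Scheme.IdealSheafData.vanishingIdeal_antimono fun _ h => h.2
  have hYC : Y ⊆ closure (closure ({η} : Set X))ᶜ := fun y hy => by
    obtain ⟨ξ, hξ, hξY, hsp⟩ := hc y hy
    refine closure_mono (Set.singleton_subset_iff.2 (show ξ ∈ (closure ({η} : Set X))ᶜ from fun h => hηY ?_))
      (specializes_iff_mem_closure.1 hsp)
    rw [NormAmpleX.eq_of_specializes_generic hξ (specializes_iff_mem_closure.2 h)]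
    exact hξY
  let M : X.IdealSheafData := vI (closure ({η} : Set X)) isClosed_closure ⊔ cI (closure ({η} : Set X))
  let J : X.IdealSheafData := vI (closure ({η} : Set X)) isClosed_closure ⊔ vI Y hY
  have hMJ : M ≤ J := sup_le_sup_left (Scheme.IdealSheafData.vanishingIdeal_antimono hYC) _
  rw [Scheme.IdealSheafData.le_def]
  intro U r hr
  refine (hker_iff J U r).1 ?_
  refine QCoh.eq_zero_of_locally U.1 _ fun p hp => ?_
  have h0 : (ClSub.quotMod J).presheaf.germ U.1 p hp ((ClSub.toSubscheme J).app U.1 r) =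
      (ClSub.quotMod J).presheaf.germ U.1 p hp 0 := by
    rw [map_zero]
    by_cases hpm : p ∈ closure ({η} : Set X) ∩ Y
    · have hpm' : p ∈ closure ({η} : Set X) ∩ closure (closure ({η} : Set X))ᶜ := ⟨hpm.1, hYC hpm.2⟩
      have hpc := isClosed_singleton_of_meet hdim.le isClosed_closure hpm'
      have ha : X.presheaf.germ U.1 p hp r ∈ IsLocalRing.maximalIdeal (X.presheaf.stalk p) := by
        refine (IsLocalRing.mem_maximalIdeal _).2 fun hu => (mem_vI_ideal U r).1 hr p hpm hp ?_
        exact (X.mem_basicOpen _ _ hp).2 hu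
      obtain ⟨π, hπ⟩ := exists_quot hMJ
      have h1 : (ClSub.toSubscheme M).app U.1 r = r • (ClSub.toSubscheme M).app U.1 (1 : Γ(X, U.1)) :=
        ((congrArg ((ClSub.toSubscheme M).app U.1) (mul_one r).symm).trans
          (Scheme.Modules.Hom.app_smul (M := Coh.structureModule X) (ClSub.toSubscheme M) r (1 : Γ(X, U.1))))
      have h2 : (ClSub.quotMod M).presheaf.germ U.1 p hp ((ClSub.toSubscheme M).app U.1 r) = 0 := by
        rw [h1, QCoh.germ_smul']
        exact smul_meet_eq_zero hX isClosed_closure (isCompUnion_closure hη) p hpm' hpc ha _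
      have h3 : π.app U.1 ((ClSub.toSubscheme M).app U.1 r) = (ClSub.toSubscheme J).app U.1 r :=
        congr(($hπ).app U.1 r)
      rw [← h3, ← DerSch.stalkFunctor_map_germ p π U.1 hp]
      exact (congrArg _ h2).trans (map_zero _)
    · haveI : Subsingleton ((ClSub.quotMod J).presheaf.stalk p) := ParShLib.subsingleton_stalk_quotMod _ (by
        show ¬ p ∈ (J.support : Set X)
        rw [Scheme.IdealSheafData.support_sup, Closeds.coe_inf, Scheme.IdealSheafData.coe_support_vanishingIdeal,
          Scheme.IdealSheafData.coe_support_vanishingIdeal]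
        exact hpm)
      exact Subsingleton.elim _ _
  obtain ⟨V, hV, i, j, hij⟩ := TopCat.Presheaf.germ_eq _ p hp hp _ _ h0
  rw [map_zero] at hij
  exact ⟨V, i, hV, hij⟩

include k in
/-- A proper nonempty union of components meets another component. -/
theorem exists_adjacent {Y : Set X} (hY : IsClosed Y) (hne : Y.Nonempty) (hu : Y ≠ Set.univ) :
    ∃ η ∈ genericPoints (X : Type u), η ∉ Y ∧ (closure ({η} : Set X) ∩ Y).Nonempty := by
  haveI := CurveCohLib.isNoetherian_of_proper (k := k) (X := X)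
  obtain ⟨p, hpY, hpC⟩ : (Y ∩ closure Yᶜ).Nonempty := by
    by_contra h
    have hd : closure Yᶜ = Yᶜ := Set.Subset.antisymm (fun x hx hxY => h ⟨x, hxY, hx⟩) subset_closure
    exact (isClopen_iff.1 ⟨hY, isClosed_compl_iff.1 (closure_eq_iff_isClosed.1 hd)⟩).elim hne.ne_empty hu
  obtain ⟨η, hη, hηY, hsp⟩ := closure_compl_subset Y hY hpC
  exact ⟨η, hη, hηY, p, specializes_iff_mem_closure.1 hsp, hpY⟩

theorem isCompUnion_insert {η : X} (hη : η ∈ genericPoints (X : Type u)) {Y : Set X} (hc : IsCompUnion Y) :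
    IsCompUnion (Y ∪ closure ({η} : Set X)) := fun x hx => hx.elim
  (fun h => let ⟨ξ, hξ, hξY, hsp⟩ := hc x h; ⟨ξ, hξ, Or.inl hξY, hsp⟩)
  fun h => let ⟨ξ, hξ, hξY, hsp⟩ := CurveGor.isCompUnion_closure hη x h; ⟨ξ, hξ, Or.inr hξY, hsp⟩

include hdim hX in
/-- A connected subcurve is a nodal curve. -/
theorem sub_nodal {Y : Set X} (hY : IsClosed Y) (hc : IsCompUnion Y) (hconn : _root_.IsConnected Y) :
    letI : (vI Y hY).subscheme.Over (Spec (CommRingCat.of k)) :=
      ⟨(vI Y hY).subschemeι ≫ (X ↘ Spec (CommRingCat.of k))⟩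
    topologicalKrullDim (vI Y hY).subscheme = 1 ∧ Curv2.AtWorstNodal k (vI Y hY).subscheme := by
  letI : (vI Y hY).subscheme.Over (Spec (CommRingCat.of k)) :=
    ⟨(vI Y hY).subschemeι ≫ (X ↘ Spec (CommRingCat.of k))⟩
  haveI : IsProper ((vI Y hY).subscheme ↘ Spec (CommRingCat.of k)) :=
    inferInstanceAs (IsProper ((vI Y hY).subschemeι ≫ (X ↘ Spec (CommRingCat.of k))))
  haveI := isReduced_of_nodal (k := k) hdim hX
  haveI := connectedSpace_subscheme hY hconn
  have hd : topologicalKrullDim (vI Y hY).subscheme = 1 :=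
    dim_subscheme (k := k) hdim.le (notClosed_of_generic (k := k) hdim) hY hc hconn.nonempty
  exact ⟨hd, (CurveGor.SubNodal.nodalCurve_of_reduced (X ↘ Spec (CommRingCat.of k)) (vI Y hY).subschemeι
    ⟨equidim (k := k) hdim, hX⟩ (equidim (k := k) hd)).2⟩

end Groth.Agent.CurveTree
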